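import Cfsg.Agent.H498.Ab.Two
import Cfsg.Agent.S4279

/-!
# Abelian subgroups of even order of `G₂(q)`, `q` odd
-/

set_option autoImplicit false
set_option linter.unusedSectionVars false

namespace Cfsg.Agent.H994.G2Even

open Cfsg Cfsg.Lie Cfsg.Agent.H498.Ab Subgroup

section pair

variable {G : Type*} [Group G] [Finite G]

/-- a normal subgroup of order two is central -/
theorem le_center_of_card_two {H : Type*} [Group H] [Finite H] (N : Subgroup H) [N.Normal] (h : Nat.card N = 2) :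
    N ≤ center H := by
  classical
  intro z hz
  rw [mem_center_iff]
  intro g
  by_cases h1 : z = 1
  · rw [h1]; simp
  have h2 : g * z * g⁻¹ ∈ N := Subgroup.Normal.conj_mem inferInstance z hz g
  have h3 : g * z * g⁻¹ ≠ 1 := by
    intro h'
    apply h1
    have : z = g⁻¹ * (g * z * g⁻¹) * g := by group
    rw [this, h']
    group
  have h4 : g * z * g⁻¹ = z := by
    by_contra hne
    have h5 : ({(⟨1, N.one_mem⟩ : N), (⟨z, hz⟩ : N), (⟨_, h2⟩ : N)} : Finset N).card = 3 := by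
      rw [Finset.card_insert_of_notMem, Finset.card_insert_of_notMem, Finset.card_singleton]
      · simp only [Finset.mem_singleton, Subtype.mk.injEq]
        exact fun h' => hne h'.symm
      · simp only [Finset.mem_insert, Finset.mem_singleton, Subtype.mk.injEq, not_or]
        exact ⟨fun h' => h1 h'.symm, fun h' => h3 h'.symm⟩
    have : Fintype N := Fintype.ofFinite N
    have h6 := Finset.card_le_univ ({(⟨1, N.one_mem⟩ : N), (⟨z, hz⟩ : N), (⟨_, h2⟩ : N)} : Finset N)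
    rw [h5, ← Nat.card_eq_fintype_card, h] at h6
    omega
  calc g * z = g * z * g⁻¹ * g := by group
    _ = z * g := by rw [h4]

variable {F : Type*} [Field F] [Fintype F]

local notation "SL2" => Matrix.SpecialLinearGroup (Fin 2) F
local notation "L2" => Matrix.ProjectiveSpecialLinearGroup (Fin 2) F

theorem abLE_L2 (hodd : Odd (Fintype.card F)) : AbLE (max 4 (Fintype.card F)) L2 := by
  intro A hA
  have hq : 0 < Fintype.card F := Fintype.card_pos
  rcases Two.card_cases hodd A hA with h | h | h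
  · exact h.trans (le_max_left _ _)
  · refine le_trans ?_ (le_max_right _ _)
    omega
  · exact (Nat.le_of_dvd hq h).trans (le_max_right _ _)

theorem card_center (hodd : Odd (Fintype.card F)) : Nat.card (center SL2) = 2 := by
  rw [Cfsg.Agent.S0280.card_center_SL (by norm_num)]
  obtain ⟨k, hk⟩ := hodd
  rw [hk]
  simp

theorem abLE_SL2 (hodd : Odd (Fintype.card F)) : AbLE (max 4 (Fintype.card F) * 2) SL2 :=
  AbLE.of_quotient (center SL2) (abLE_L2 hodd) (abLE_of_card_le (card_center hodd).le)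

theorem exists_mul {L₁ L₂ : Subgroup G} (hcomm : ∀ x ∈ L₁, ∀ y ∈ L₂, x * y = y * x) {x : G} (hx : x ∈ L₁ ⊔ L₂) :
    ∃ a ∈ L₁, ∃ b ∈ L₂, x = a * b := by
  let S : Subgroup G :=
    { carrier := {x | ∃ a ∈ L₁, ∃ b ∈ L₂, x = a * b}
      one_mem' := ⟨1, L₁.one_mem, 1, L₂.one_mem, by simp⟩
      mul_mem' := by
        rintro _ _ ⟨a, ha, b, hb, rfl⟩ ⟨c, hc, d, hd, rfl⟩
        refine ⟨a * c, L₁.mul_mem ha hc, b * d, L₂.mul_mem hb hd, ?_⟩
        calc a * b * (c * d) = a * (b * c) * d := by group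
          _ = a * (c * b) * d := by rw [hcomm c hc b hb]
          _ = a * c * (b * d) := by group
      inv_mem' := by
        rintro _ ⟨a, ha, b, hb, rfl⟩
        refine ⟨a⁻¹, L₁.inv_mem ha, b⁻¹, L₂.inv_mem hb, ?_⟩
        rw [mul_inv_rev]
        exact (hcomm _ (L₁.inv_mem ha) _ (L₂.inv_mem hb)).symm }
  have h : L₁ ⊔ L₂ ≤ S := sup_le (fun a ha => ⟨a, ha, 1, L₂.one_mem, by simp⟩) (fun b hb => ⟨1, L₁.one_mem, b, hb, by simp⟩)
  exact h hx

theorem abLE_pair (hodd : Odd (Fintype.card F)) {C L₁ L₂ : Subgroup G} (e1 : L₁ ≃* SL2) (e2 : L₂ ≃* SL2)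
    (hcomm : ∀ x ∈ L₁, ∀ y ∈ L₂, x * y = y * x) (hinf : Nat.card (L₁ ⊓ L₂ : Subgroup G) = 2) (hle : L₁ ⊔ L₂ ≤ C)
    (hidx : (L₁ ⊔ L₂).relIndex C = 2) :
    AbLE (max 4 (Fintype.card F) * (max 4 (Fintype.card F) * 2) * 2) C := by
  have hn : (L₁.subgroupOf (L₁ ⊔ L₂)).Normal := by
    refine ⟨fun n hn g => ?_⟩
    rw [mem_subgroupOf] at hn ⊢
    obtain ⟨a, ha, b, hb, hg⟩ := exists_mul hcomm g.2
    show (g : G) * (n : G) * (g : G)⁻¹ ∈ L₁
    have : (g : G) * (n : G) * (g : G)⁻¹ = a * n * a⁻¹ := by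
      rw [hg]
      calc a * b * (n : G) * (a * b)⁻¹ = a * (b * (n : G)) * b⁻¹ * a⁻¹ := by group
        _ = a * ((n : G) * b) * b⁻¹ * a⁻¹ := by rw [hcomm _ hn b hb]
        _ = a * n * a⁻¹ := by group
    rw [this]
    exact L₁.mul_mem (L₁.mul_mem ha hn) (L₁.inv_mem ha)
  have hX : AbLE (max 4 (Fintype.card F) * (max 4 (Fintype.card F) * 2)) (L₁ ⊔ L₂ : Subgroup G) := by
    refine AbLE.of_quotient (L₁.subgroupOf (L₁ ⊔ L₂)) ?_ ?_
    · let g : SL2 →* (L₁ ⊔ L₂ : Subgroup G) ⧸ L₁.subgroupOf (L₁ ⊔ L₂) :=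
        (QuotientGroup.mk' (L₁.subgroupOf (L₁ ⊔ L₂))).comp
          ((Subgroup.inclusion (le_sup_right : L₂ ≤ L₁ ⊔ L₂)).comp e2.symm.toMonoidHom)
      have hs : Function.Surjective g := by
        intro x
        obtain ⟨⟨x, hx⟩, rfl⟩ := QuotientGroup.mk'_surjective _ x
        obtain ⟨a, ha, b, hb, rfl⟩ := exists_mul hcomm hx
        refine ⟨e2 ⟨b, hb⟩, ?_⟩
        show QuotientGroup.mk' (L₁.subgroupOf (L₁ ⊔ L₂)) (Subgroup.inclusion le_sup_right (e2.symm (e2 ⟨b, hb⟩))) = _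
        rw [MulEquiv.symm_apply_apply, QuotientGroup.mk'_apply, QuotientGroup.mk'_apply, QuotientGroup.eq, mem_subgroupOf]
        show b⁻¹ * (a * b) ∈ L₁
        have : b⁻¹ * (a * b) = a := by rw [hcomm a ha b hb]; group
        rw [this]
        exact ha
      have hk1 : ∀ x : SL2, x ∈ g.ker → (e2.symm x : G) ∈ L₁ ⊓ L₂ := by
        intro x h1
        rw [MonoidHom.mem_ker] at h1
        have h2 : QuotientGroup.mk' (L₁.subgroupOf (L₁ ⊔ L₂)) (Subgroup.inclusion le_sup_right (e2.symm x)) = 1 := h1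
        rw [QuotientGroup.mk'_apply, QuotientGroup.eq_one_iff, mem_subgroupOf] at h2
        exact ⟨h2, (e2.symm x).2⟩
      have hk2 : ∀ y : G, ∀ hy : y ∈ L₁ ⊓ L₂, e2 ⟨y, hy.2⟩ ∈ g.ker := by
        intro y hy
        rw [MonoidHom.mem_ker]
        show QuotientGroup.mk' (L₁.subgroupOf (L₁ ⊔ L₂)) (Subgroup.inclusion le_sup_right (e2.symm (e2 ⟨y, hy.2⟩))) = 1
        rw [QuotientGroup.mk'_apply, QuotientGroup.eq_one_iff, mem_subgroupOf, e2.symm_apply_apply]
        exact hy.1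
      have hk : Nat.card g.ker = 2 := Eq.trans (Nat.card_congr
          { toFun := fun x => ⟨(e2.symm x.1 : G), hk1 x.1 x.2⟩
            invFun := fun y => ⟨e2 ⟨y.1, y.2.2⟩, hk2 y.1 y.2⟩
            left_inv := fun x => Subtype.ext (e2.apply_symm_apply x.1)
            right_inv := fun y => Subtype.ext (by
              show ((e2.symm (e2 ⟨y.1, y.2.2⟩) : L₂) : G) = y.1
              rw [e2.symm_apply_apply]) }) hinf
      have hkc : center SL2 = g.ker :=
        (Subgroup.eq_of_le_of_card_ge (le_center_of_card_two g.ker hk) (by rw [hk, card_center hodd])).symm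
      exact (abLE_L2 hodd).congr ((QuotientGroup.quotientMulEquivOfEq hkc).trans
        (QuotientGroup.quotientKerEquivOfSurjective g hs))
    · exact (abLE_SL2 hodd).congr ((Subgroup.subgroupOfEquivOfLe (le_sup_left : L₁ ≤ L₁ ⊔ L₂)).trans e1).symm
  have h1 := AbLE.of_index ((L₁ ⊔ L₂).subgroupOf C) (hX.congr (Subgroup.subgroupOfEquivOfLe hle).symm)
  have h2 : ((L₁ ⊔ L₂).subgroupOf C).index = 2 := hidx
  rwa [h2] at h1

end pair

variable {F : Type*} [Field F] [Fintype F]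

/-- **abelian subgroups of even order** -/
theorem card_le (hodd : Odd (Fintype.card F)) {A : Subgroup ↥(chevG2.group F)} (hA : IsMulCommutative A)
    (h2 : 2 ∣ Nat.card A) : Nat.card A ≤ max 4 (Fintype.card F) * (max 4 (Fintype.card F) * 2) * 2 := by
  have hfin : Finite ↥(chevG2.group F) := inferInstance
  have : Fact (Nat.Prime 2) := ⟨Nat.prime_two⟩
  obtain ⟨t, ht⟩ := exists_prime_orderOf_dvd_card' 2 h2
  have ht' : orderOf (t : ↥(chevG2.group F)) = 2 := by rw [Subgroup.orderOf_coe, ht]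
  obtain ⟨-, L₁, L₂, ⟨e1⟩, ⟨e2⟩, hcomm, hinf, hle, hidx⟩ := Cfsg.Agent.S4279.result hodd t.1 ht'
  refine card_le_of_mem (abLE_pair hodd e1 e2 hcomm ?_ hle hidx) hA t.2
  rw [hinf, Nat.card_zpowers, ht']

end Cfsg.Agent.H994.G2Even
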