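import Cfsg.Agent.H498.Ab.Def
import Cfsg.Agent.H181.OctMain
import Cfsg.Agent.S1059

/-!
# Orders of abelian subgroups of `G₂(q)` prime to the characteristic: arithmetic
-/

set_option autoImplicit false
set_option linter.unusedSectionVars false

namespace Cfsg.Agent.H994.G2Num

open Cfsg Cfsg.Lie Cfsg.Agent.H498.Ab Subgroup

/-! ### arithmetic -/

theorem cube_sub (q : ℕ) : q ^ 6 - 1 = (q ^ 2 - 1) * (q ^ 4 + q ^ 2 + 1) := by
  rcases Nat.eq_zero_or_pos q with rfl | hq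
  · simp
  have h1 : 1 ≤ q ^ 2 := Nat.one_le_pow _ _ hq
  have h2 : 1 ≤ q ^ 6 := Nat.one_le_pow _ _ hq
  zify [h1, h2]
  ring

theorem nt_sq {n q : ℕ} (hq : 2 ≤ q) (hn : n ∣ (q ^ 2 - 1) ^ 2 * (q ^ 4 + q ^ 2 + 1))
    (hs : ∀ s : ℕ, s.Prime → s ∣ n → s ∣ q ^ 2 - 1)
    (h3 : 3 ∣ n → ∃ k : ℕ, 3 ^ k ∣ q ^ 2 - 1 ∧ ¬ 3 ^ (2 * k + 1) ∣ n) : n ∣ (q ^ 2 - 1) ^ 2 := by
  have hq2 : 1 ≤ q ^ 2 := Nat.one_le_pow _ _ (by omega)
  have hn0 : n ≠ 0 := by
    rintro rfl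
    have h1 := Nat.eq_zero_of_zero_dvd hn
    have h2 : 4 ≤ q ^ 2 := by nlinarith
    have h3 : 0 < (q ^ 2 - 1) ^ 2 * (q ^ 4 + q ^ 2 + 1) := by
      apply Nat.mul_pos
      · apply Nat.pow_pos; omega
      · positivity
    omega
  obtain ⟨a, m, hm3, hnm⟩ := Nat.exists_eq_pow_mul_and_not_dvd hn0 3 (by norm_num)
  have hm : m ∣ (q ^ 2 - 1) ^ 2 := by
    refine Nat.Coprime.dvd_of_dvd_mul_right (n := q ^ 4 + q ^ 2 + 1) ?_ ((Dvd.intro_left _ hnm.symm).trans hn)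
    rw [Nat.Coprime, Nat.eq_one_iff_not_exists_prime_dvd]
    intro s hsp hsd
    have h1 : s ∣ m := hsd.trans (Nat.gcd_dvd_left _ _)
    have h2 : s ∣ q ^ 4 + q ^ 2 + 1 := hsd.trans (Nat.gcd_dvd_right _ _)
    have h3 : s ∣ q ^ 2 - 1 := hs s hsp (h1.trans (Dvd.intro_left _ hnm.symm))
    have h4 : q ^ 4 + q ^ 2 + 1 = (q ^ 2 - 1) * (q ^ 2 + 2) + 3 := by
      zify [hq2]; ring
    rw [h4] at h2
    have h5 : s ∣ 3 := (Nat.dvd_add_right (h3.mul_right _)).1 h2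
    have h6 : s = 3 := (Nat.prime_dvd_prime_iff_eq hsp Nat.prime_three).1 h5
    rw [h6] at h1
    exact hm3 h1
  have ha : 3 ^ a ∣ (q ^ 2 - 1) ^ 2 := by
    rcases Nat.eq_zero_or_pos a with rfl | ha
    · simp
    · have h1 : 3 ∣ n := by
        rw [hnm]
        exact (dvd_pow_self 3 ha.ne').mul_right _
      obtain ⟨k, hk1, hk2⟩ := h3 h1
      have h2 : a ≤ 2 * k := by
        by_contra h'
        apply hk2
        rw [hnm]
        exact (pow_dvd_pow 3 (by omega)).mul_right _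
      have h3 : (3 ^ k) ^ 2 ∣ (q ^ 2 - 1) ^ 2 := pow_dvd_pow_of_dvd hk1 2
      rw [← pow_mul, mul_comm] at h3
      exact (pow_dvd_pow 3 h2).trans h3
  rw [hnm]
  exact Nat.Coprime.mul_dvd_of_dvd_of_dvd (Nat.Coprime.pow_left _ ((Nat.Prime.coprime_iff_not_dvd Nat.prime_three).2 hm3)) ha hm

/-- the odd part -/
theorem nt_pm {n q : ℕ} (hq : 2 ≤ q) (hn : n ∣ (q ^ 2 - 1) ^ 2) (hodd : ¬ 2 ∣ n) {r : ℕ} (hr : r = q - 1 ∨ r = q + 1)
    (hs : ∀ s : ℕ, s.Prime → s ∣ n → s ∣ r) : n ≤ (q + 1) ^ 2 := by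
  have h0 : q ^ 2 - 1 = (q - 1) * (q + 1) := by
    obtain ⟨t, rfl⟩ := Nat.exists_eq_add_of_le hq
    have : 2 + t - 1 = t + 1 := by omega
    rw [this]
    have h1 : 1 ≤ (2 + t) ^ 2 := Nat.one_le_pow _ _ (by omega)
    zify [h1]; ring
  have key : ∀ r' : ℕ, (q - 1) * (q + 1) = r * r' → (∀ s, s ∣ r → s ∣ r' → s ∣ 2) → n ∣ r ^ 2 := by
    intro r' hr' h2
    rw [h0, hr', mul_pow] at hn
    refine Nat.Coprime.dvd_of_dvd_mul_right (n := r' ^ 2) ?_ hn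
    apply Nat.Coprime.pow_right
    rw [Nat.Coprime, Nat.eq_one_iff_not_exists_prime_dvd]
    intro s hsp hsd
    have h3 : s ∣ n := hsd.trans (Nat.gcd_dvd_left _ _)
    have h4 := h2 s (hs s hsp h3) (hsd.trans (Nat.gcd_dvd_right _ _))
    have h5 : s = 2 := (Nat.prime_dvd_prime_iff_eq hsp Nat.prime_two).1 h4
    rw [h5] at h3
    exact hodd h3
  rcases hr with rfl | rfl
  · have h1 := key (q + 1) rfl (fun s h2 h3 => by
      have h4 : q + 1 = (q - 1) + 2 := by omega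
      rw [h4] at h3
      exact (Nat.dvd_add_right h2).1 h3)
    refine (Nat.le_of_dvd (Nat.pow_pos (by omega)) h1).trans (Nat.pow_le_pow_left (by omega) 2)
  · have h1 := key (q - 1) (mul_comm _ _) (fun s h2 h3 => by
      have h4 : q + 1 = (q - 1) + 2 := by omega
      rw [h4] at h2
      exact (Nat.dvd_add_right h3).1 h2)
    exact Nat.le_of_dvd (Nat.pow_pos (by omega)) h1

theorem coprime_aux {q ε : ℤ} (hε : ε = 1 ∨ ε = -1) {s : ℕ} (hs : s.Prime) (h2 : s ≠ 2) (h3 : s ≠ 3)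
    (h : (s : ℤ) ∣ q ^ 2 + ε * q + 1) : ¬ (s : ℤ) ∣ q ^ 2 - 1 ∧ ¬ (s : ℤ) ∣ q ^ 2 - ε * q + 1 := by
  have hp : Prime (s : ℤ) := Nat.prime_iff_prime_int.1 hs
  constructor
  · intro h'
    have h4 : (s : ℤ) ∣ 3 := by
      rcases hε with rfl | rfl
      · have e : (3 : ℤ) = (2 - q) * (q ^ 2 + 1 * q + 1) + (q - 1) * (q ^ 2 - 1) := by ring
        rw [e]
        exact dvd_add (h.mul_left _) (h'.mul_left _)
      · have e : (3 : ℤ) = (2 + q) * (q ^ 2 + -1 * q + 1) + (-q - 1) * (q ^ 2 - 1) := by ring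
        rw [e]
        exact dvd_add (h.mul_left _) (h'.mul_left _)
    have h5 : s ∣ 3 := by exact_mod_cast h4
    exact h3 ((Nat.prime_dvd_prime_iff_eq hs Nat.prime_three).1 h5)
  · intro h'
    have h4 : (s : ℤ) ∣ 2 * (ε * q) := by
      have e : 2 * (ε * q) = (q ^ 2 + ε * q + 1) - (q ^ 2 - ε * q + 1) := by ring
      rw [e]
      exact dvd_sub h h'
    rcases hp.dvd_or_dvd h4 with h5 | h5
    · have h6 : s ∣ 2 := by exact_mod_cast h5
      exact h2 ((Nat.prime_dvd_prime_iff_eq hs Nat.prime_two).1 h6)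
    · have h6 : (s : ℤ) ∣ 1 := by
        have e : (1 : ℤ) = (q ^ 2 + ε * q + 1) - (ε * q + 1) * (ε * q) - (1 - ε ^ 2) * q ^ 2 := by ring
        rw [e]
        refine dvd_sub (dvd_sub h (h5.mul_left _)) ?_
        have : (1 - ε ^ 2) = 0 := by rcases hε with rfl | rfl <;> norm_num
        rw [this, zero_mul]
        exact dvd_zero _
      exact hp.not_dvd_one h6

/-- the tori of order `q² ± q + 1` -/
theorem nt_cox {n q : ℕ} (hq : 2 ≤ q) (hn : n ∣ (q ^ 2 - 1) ^ 2 * (q ^ 4 + q ^ 2 + 1)) {r : ℕ}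
    (hr : r = q ^ 2 - q + 1 ∨ r = q ^ 2 + q + 1) (hs : ∀ s : ℕ, s.Prime → s ∣ n → s ∣ r)
    (h3 : 3 ∣ n → ∃ k : ℕ, 3 ^ k ∣ q ^ 2 - 1 ∧ ¬ 3 ^ (2 * k + 1) ∣ n) :
    n ≤ (q ^ 2 + q + 1) * (q + 1) ^ 2 ∧ (¬ 3 ∣ n → n ≤ q ^ 2 + q + 1) := by
  have hq2 : 1 ≤ q ^ 2 := Nat.one_le_pow _ _ (by omega)
  have hqq : q ≤ q ^ 2 := Nat.le_self_pow (by norm_num) q
  have hn0 : n ≠ 0 := by
    rintro rfl
    have h1 := Nat.eq_zero_of_zero_dvd hn
    have h2 : 4 ≤ q ^ 2 := by nlinarith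
    have h3 : 0 < (q ^ 2 - 1) ^ 2 * (q ^ 4 + q ^ 2 + 1) := by
      apply Nat.mul_pos
      · apply Nat.pow_pos; omega
      · positivity
    omega
  have hfac : q ^ 4 + q ^ 2 + 1 = (q ^ 2 - q + 1) * (q ^ 2 + q + 1) := by
    zify [hqq]; ring
  obtain ⟨a, m, hm3, hnm⟩ := Nat.exists_eq_pow_mul_and_not_dvd hn0 3 (by norm_num)
  have hmn : m ∣ n := Dvd.intro_left _ hnm.symm
  have hr0 : 0 < r := by rcases hr with rfl | rfl <;> omega
  have hrle : r ≤ q ^ 2 + q + 1 := by rcases hr with rfl | rfl <;> omega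
  -- over the integers
  obtain ⟨ε, r', hε, hrε, hrε', hprod⟩ : ∃ (ε : ℤ) (r' : ℕ), (ε = 1 ∨ ε = -1) ∧ (r : ℤ) = (q : ℤ) ^ 2 + ε * q + 1 ∧
      (r' : ℤ) = (q : ℤ) ^ 2 - ε * q + 1 ∧ q ^ 4 + q ^ 2 + 1 = r * r' := by
    rcases hr with rfl | rfl
    · refine ⟨-1, q ^ 2 + q + 1, Or.inr rfl, ?_, ?_, hfac⟩
      · push_cast [hqq]; ring
      · push_cast; ring
    · refine ⟨1, q ^ 2 - q + 1, Or.inl rfl, ?_, ?_, by rw [hfac, mul_comm]⟩
      · push_cast; ring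
      · push_cast [hqq]; ring
  have hodd : ¬ 2 ∣ r := by
    intro h2
    have h4 : (2 : ℤ) ∣ (q : ℤ) ^ 2 + ε * q + 1 := by rw [← hrε]; exact_mod_cast h2
    have h5 : (2 : ℤ) ∣ (q : ℤ) ^ 2 + ε * q := by
      rcases Int.even_or_odd' (q : ℤ) with ⟨t, ht | ht⟩ <;> rcases hε with rfl | rfl <;> rw [ht]
      · exact ⟨2 * t ^ 2 + t, by ring⟩
      · exact ⟨2 * t ^ 2 - t, by ring⟩
      · exact ⟨2 * t ^ 2 + 3 * t + 1, by ring⟩
      · exact ⟨2 * t ^ 2 + t, by ring⟩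
    have h6 : (2 : ℤ) ∣ 1 := (dvd_add_right h5).1 h4
    norm_num at h6
  have hm : m ∣ r := by
    refine Nat.Coprime.dvd_of_dvd_mul_left (m := (q ^ 2 - 1) ^ 2 * r') ?_ ?_
    · rw [Nat.Coprime, Nat.eq_one_iff_not_exists_prime_dvd]
      intro s hsp hsd
      have h4 : s ∣ m := hsd.trans (Nat.gcd_dvd_left _ _)
      have h5 : s ≠ 3 := by
        rintro rfl
        exact hm3 h4
      have h6 : s ∣ r := hs s hsp (h4.trans hmn)
      have h7 : s ≠ 2 := by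
        rintro rfl
        exact hodd h6
      have h8 : (s : ℤ) ∣ (q : ℤ) ^ 2 + ε * q + 1 := by rw [← hrε]; exact_mod_cast h6
      obtain ⟨h9, h10⟩ := coprime_aux hε hsp h7 h5 h8
      rcases (Nat.Prime.dvd_mul hsp).1 (hsd.trans (Nat.gcd_dvd_right _ _)) with h11 | h11
      · apply h9
        have h12 := Int.natCast_dvd_natCast.2 (hsp.dvd_of_dvd_pow h11)
        push_cast [hq2] at h12
        exact h12
      · apply h10
        rw [← hrε']
        exact_mod_cast h11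
    · have h4 := hmn.trans hn
      rw [hprod] at h4
      have e : (q ^ 2 - 1) ^ 2 * (r * r') = (q ^ 2 - 1) ^ 2 * r' * r := by ring
      rwa [e] at h4
  have hmle : m ≤ q ^ 2 + q + 1 := (Nat.le_of_dvd hr0 hm).trans hrle
  have ha : 3 ^ a ≤ (q + 1) ^ 2 := by
    rcases Nat.eq_zero_or_pos a with rfl | ha
    · simpa using Nat.one_le_pow 2 (q + 1) (by omega)
    · have h1 : 3 ∣ n := by
        rw [hnm]
        exact (dvd_pow_self 3 ha.ne').mul_right _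
      obtain ⟨k, hk1, hk2⟩ := h3 h1
      have h2 : a ≤ 2 * k := by
        by_contra h'
        apply hk2
        rw [hnm]
        exact (pow_dvd_pow 3 (by omega)).mul_right _
      have h0 : q ^ 2 - 1 = (q - 1) * (q + 1) := by
        obtain ⟨t, rfl⟩ := Nat.exists_eq_add_of_le hq
        have : 2 + t - 1 = t + 1 := by omega
        rw [this]
        zify [hq2]; ring
      rw [h0] at hk1
      have h4 : 3 ^ k ≤ q + 1 := by
        by_cases h5 : 3 ∣ q - 1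
        · have h6 : ¬ 3 ∣ q + 1 := by omega
          have h7 := Nat.Coprime.dvd_of_dvd_mul_right
            (Nat.Coprime.pow_left k ((Nat.Prime.coprime_iff_not_dvd Nat.prime_three).2 h6)) hk1
          exact (Nat.le_of_dvd (by omega) h7).trans (by omega)
        · have h7 := Nat.Coprime.dvd_of_dvd_mul_left
            (Nat.Coprime.pow_left k ((Nat.Prime.coprime_iff_not_dvd Nat.prime_three).2 h5)) hk1
          exact Nat.le_of_dvd (by omega) h7
      calc 3 ^ a ≤ 3 ^ (2 * k) := Nat.pow_le_pow_right (by norm_num) h2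
        _ = (3 ^ k) ^ 2 := by rw [← pow_mul, mul_comm]
        _ ≤ (q + 1) ^ 2 := Nat.pow_le_pow_left h4 2
  constructor
  · rw [hnm, mul_comm]
    exact Nat.mul_le_mul hmle ha
  · intro h4
    have h5 : a = 0 := by
      by_contra h5
      apply h4
      rw [hnm]
      exact (dvd_pow_self 3 h5).mul_right _
    rw [hnm, h5, pow_zero, one_mul]
    exact hmle

/-! ### the group -/

variable {F : Type*} [Field F] [Fintype F]

theorem card_eq : Nat.card ↥(chevG2.group F) =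
    Fintype.card F ^ 6 * ((Fintype.card F ^ 2 - 1) ^ 2 * (Fintype.card F ^ 4 + Fintype.card F ^ 2 + 1)) := by
  rw [Cfsg.Agent.S1059.result (F := F) rfl, cube_sub]
  ring

/-- the 3-part -/
theorem three_part (h3 : (3 : F) ≠ 0) {A : Subgroup ↥(chevG2.group F)} (hA : IsMulCommutative A) :
    ∃ k : ℕ, 3 ^ k ∣ Fintype.card F ^ 2 - 1 ∧ ¬ 3 ^ (2 * k + 1) ∣ Nat.card A := by
  have hfin : Finite ↥(chevG2.group F) := inferInstance
  have : Fact (Nat.Prime 3) := ⟨Nat.prime_three⟩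
  obtain ⟨e⟩ := Cfsg.Agent.H638.G2Iso.equiv (F := F)
  obtain ⟨k, hk1, hk2, -, -, hk5⟩ := Cfsg.Agent.H181.OctHerm.cards' h3
  rw [Nat.card_eq_fintype_card] at hk2
  refine ⟨k, hk2, ?_⟩
  have S : Sylow 3 ↥(chevG2.group F) := default
  have hS := Cfsg.Agent.H181.OctHerm.card_sylow h3 e.symm S
  rw [hk5] at hS
  have hS' : Nat.card S = 3 ^ (2 * k + 1) := by
    rw [hS]; ring
  refine dvd_of_sylow S ?_ hS' hA
  intro hc
  have h1 := Cfsg.Agent.H181.OctHerm.card_center h3 e.symm S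
  have h2 : (S : Subgroup ↥(chevG2.group F)) ⊓ centralizer ((S : Subgroup ↥(chevG2.group F)) : Set ↥(chevG2.group F)) = S := by
    rw [inf_eq_left]
    intro x hx
    rw [mem_centralizer_iff]
    intro y hy
    exact comm_iff.1 hc y hy x hx
  rw [h2] at h1
  have h3 : Nat.card S = 3 := h1
  rw [hS'] at h3
  have h4 : 3 ^ 3 ≤ 3 ^ (2 * k + 1) := Nat.pow_le_pow_right (by norm_num) (by omega)
  omega

end Cfsg.Agent.H994.G2Num
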