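import Cfsg.Agent.H994.Ab.G2Mix
import Cfsg.Agent.H498.Ab.Lift

/-!
# Elements of order three of `G₂(q)` with centraliser `SL₃^±(q)`
-/

set_option autoImplicit false
set_option linter.unusedSectionVars false
set_option linter.unusedSimpArgs false

namespace Cfsg.Agent.H994.G2Three

open Cfsg.Lie Module Cfsg.Agent.H161.Oct Cfsg.Agent.H994.G2Mix

variable {F : Type*} [Field F] [Fintype F] {p n : ℕ} [hp : Fact p.Prime]

local notation "K" => AlgebraicClosure F

theorem card_le_three {G : Type*} [Group G] (C : Subgroup G) {x : G} (h : ∀ y ∈ C, y = 1 ∨ y = x ∨ y = x * x) :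
    Nat.card C ≤ 3 := by
  classical
  have h1 : (C : Set G) ⊆ (({1, x, x * x} : Finset G) : Set G) := by
    intro y hy
    rcases h y hy with rfl | rfl | rfl <;> simp
  have h2 := Nat.card_mono (Finset.finite_toSet _) h1
  refine h2.trans ?_
  rw [Nat.card_eq_fintype_card]
  simp only [Finset.coe_sort_coe, Fintype.card_coe]
  exact Finset.card_le_three

theorem card_le (C : Subgroup (GL (Fin 8) F)) (hC : ∀ x ∈ C, ∀ y ∈ C, x * y = y * x)
    (h3 : ∀ x ∈ C, x ^ 3 = 1) (hT : ∀ x ∈ C, x ≠ 1 → T3 x) : Nat.card C ≤ 3 := by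
  by_cases htriv : ∀ x ∈ C, x = 1
  · exact card_le_three C (x := 1) (fun y hy => Or.inl (htriv y hy))
  push Not at htriv
  obtain ⟨x, hxC, hx1⟩ := htriv
  obtain ⟨ω, hω3, hω1, h, hh, hx⟩ := hT x hxC hx1
  set φ : F →+* K := algebraMap F K with hφ
  set f := emb φ x with hf
  apply card_le_three C (x := x)
  intro y hy
  -- the transported element
  set v := h * emb φ y * h⁻¹ with hv
  have hcomm : ∀ z, v ((h * f * h⁻¹) z) = (h * f * h⁻¹) (v z) := by
    intro z
    rw [← LinearEquiv.mul_apply, ← LinearEquiv.mul_apply]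
    have h4 : emb φ y * f = f * emb φ y := by rw [hf, ← map_mul, ← map_mul, hC y hy x hxC]
    have : v * (h * f * h⁻¹) = (h * f * h⁻¹) * v := by
      rw [hv]
      calc h * emb φ y * h⁻¹ * (h * f * h⁻¹) = h * (emb φ y * f) * h⁻¹ := by group
        _ = h * (f * emb φ y) * h⁻¹ := by rw [h4]
        _ = _ := by group
    rw [this]
  have hmap : ∀ z ∈ Wl ω ω ω ω, v z ∈ Wl ω ω ω ω := fun z hz => map_Wl hx hcomm hz
  have hne : (Pi.single 1 1 : V K) ∈ Wl ω ω ω ω := single_mem_Wl ω ω ω 1
  have hnt : Nontrivial (Wl ω ω ω ω) := by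
    refine ⟨⟨⟨_, hne⟩, 0, ?_⟩⟩
    intro h4
    have h5 := congrFun (congrArg Subtype.val h4) 1
    simp at h5
  let g : Module.End K (Wl ω ω ω ω) := (v : V K →ₗ[K] V K).restrict hmap
  obtain ⟨l, hl⟩ := Module.End.exists_eigenvalue g
  obtain ⟨w, hw⟩ := hl.exists_hasEigenvector
  have hw0 : (w : V K) ≠ 0 := fun h4 => hw.2 (Subtype.ext h4)
  have hw1 : v (w : V K) = l • (w : V K) := congrArg Subtype.val hw.apply_eq_smul
  -- the eigenvalue is a cube root of one
  have hv3 : v ^ 3 = 1 := by rw [hv, conj_pow, ← map_pow, h3 y hy]; simp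
  have hl3 : l ^ 3 = 1 := by
    have h4 : (v ^ 3) (w : V K) = l ^ 3 • (w : V K) := by
      rw [pow_succ, pow_succ, pow_one, LinearEquiv.mul_apply, LinearEquiv.mul_apply, hw1, map_smul, hw1, map_smul,
        map_smul, hw1, smul_smul, smul_smul]
      congr 1
      ring
    rw [hv3] at h4
    have h5 : (l ^ 3 - 1) • (w : V K) = 0 := by
      rw [sub_smul, one_smul, ← h4]
      exact sub_self _
    exact sub_eq_zero.1 ((smul_eq_zero.1 h5).resolve_right hw0)
  have hω2 : ω ^ 2 + ω + 1 = 0 := by
    have : (ω - 1) * (ω ^ 2 + ω + 1) = 0 := by linear_combination hω3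
    exact (mul_eq_zero.1 this).resolve_left (sub_ne_zero.2 hω1)
  have hl' : l = 1 ∨ l = ω ∨ l = ω * ω := by
    have h4 : (l - 1) * ((l - ω) * (l - ω * ω)) = 0 := by
      linear_combination hl3 - (l ^ 2 - l) * hω2 - (1 - l) * (hω3)
    rcases mul_eq_zero.1 h4 with h5 | h5
    · exact Or.inl (sub_eq_zero.1 h5)
    · rcases mul_eq_zero.1 h5 with h6 | h6
      · exact Or.inr (Or.inl (sub_eq_zero.1 h6))
      · exact Or.inr (Or.inr (sub_eq_zero.1 h6))
  -- vectors fixed by an element of type `T3`
  have key : ∀ z ∈ C, (h * emb φ z * h⁻¹) (w : V K) = w → z = 1 := by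
    intro z hz hzw
    by_contra hz1
    obtain ⟨ω', hω3', hω1', h', hh', hx'⟩ := hT z hz hz1
    set w' := h' (h.symm (w : V K)) with hw'
    have h4 : (h' * emb φ z * h'⁻¹) w' = w' := by
      show h' (emb φ z (h'.symm (h' (h.symm (w : V K))))) = w'
      rw [h'.symm_apply_apply]
      have h5 : h (emb φ z (h.symm (w : V K))) = w := hzw
      have h6 : emb φ z (h.symm (w : V K)) = h.symm (w : V K) := by
        apply h.injective
        rw [h5, h.apply_symm_apply]
      rw [h6]
    have hωi : ω'⁻¹ ≠ 1 := fun h5 => hω1' (inv_eq_one.1 h5)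
    have h5 : ∀ j, dg ω' ω' ω' j ≠ 1 → w' j = 0 := by
      intro j hj
      have h6 := congrFun h4 j
      rw [hx'] at h6
      have h7 : (dg ω' ω' ω' j - 1) * w' j = 0 := by linear_combination h6
      exact (mul_eq_zero.1 h7).resolve_left (sub_ne_zero.2 hj)
    have e1 := h5 1 hω1'
    have e2 := h5 2 hω1'
    have e3 := h5 3 hω1'
    have e4 := h5 4 hωi
    have e5 := h5 5 hωi
    have e6 := h5 6 hωi
    have hh2 : h.symm ∈ AutO K := (AutO K).inv_mem hh
    have htr : tr w' = 0 := by
      rw [hw', map_tr hh', map_tr hh2]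
      have d0 : (w : V K) 0 = 0 := w.2 0 (fun h6 => hω1 h6.symm)
      have d7 : (w : V K) 7 = 0 := w.2 7 (fun h6 => hω1 h6.symm)
      rw [tr, d0, d7, add_zero]
    have hωω : ω⁻¹ ≠ ω := by
      intro h6
      have h7 : ω * ω = 1 := by
        nth_rw 1 [← h6]
        apply inv_mul_cancel₀
        rintro rfl
        simp at hω3
      apply hω1
      have : ω ^ 3 = ω * ω * ω := by ring
      rw [this, h7, one_mul] at hω3
      exact hω3
    have hnm : nm w' = 0 := by
      rw [hw', map_nm hh', map_nm hh2]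
      have d0 : (w : V K) 0 = 0 := w.2 0 (fun h6 => hω1 h6.symm)
      have d4 : (w : V K) 4 = 0 := w.2 4 hωω
      have d5 : (w : V K) 5 = 0 := w.2 5 hωω
      have d6 : (w : V K) 6 = 0 := w.2 6 hωω
      rw [nm, d0, d4, d5, d6]
      ring
    have d0 : w' 0 = 0 := by
      rw [nm, e1, e2, e3] at hnm
      rw [tr] at htr
      have h6 : w' 0 * w' 0 = 0 := by linear_combination (w' 0) * htr - hnm
      exact mul_self_eq_zero.1 h6
    have d7 : w' 7 = 0 := by
      rw [tr, d0, zero_add] at htr
      exact htr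
    have h8 : w' = 0 := ext8 d0 e1 e2 e3 e4 e5 e6 d7
    apply hw0
    rw [hw'] at h8
    have h9 : h.symm (w : V K) = 0 := h'.map_eq_zero_iff.1 h8
    exact h.symm.map_eq_zero_iff.1 h9
  have hωne : ω ≠ 0 := by
    rintro rfl
    simp at hω3
  -- powers of `x` on `w`
  have htw : (h * f * h⁻¹) (w : V K) = ω • (w : V K) := by
    funext j
    rw [hx, Pi.smul_apply, smul_eq_mul]
    by_cases hj : dg ω ω ω j = ω
    · rw [hj]
    · rw [w.2 j hj, mul_zero, mul_zero]
  have hconj : ∀ z z' : GL (Fin 8) F, (h * emb φ (z * z') * h⁻¹) (w : V K) =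
      (h * emb φ z * h⁻¹) ((h * emb φ z' * h⁻¹) (w : V K)) := by
    intro z z'
    rw [← LinearEquiv.mul_apply, map_mul]
    congr 1
    group
  rcases hl' with h4 | h4 | h4
  · left
    apply key y hy
    show v (w : V K) = w
    rw [hw1, h4, one_smul]
  · -- `y x x`
    have h5 : y * (x * x) = 1 := by
      apply key _ (C.mul_mem hy (C.mul_mem hxC hxC))
      rw [hconj, hconj, htw, map_smul, htw, smul_smul, map_smul]
      show (ω * ω) • v (w : V K) = w
      rw [hw1, h4, smul_smul]
      have : ω * ω * ω = 1 := by linear_combination hω3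
      rw [this, one_smul]
    right; left
    have h6 : x * (x * x) = 1 := by
      have := h3 x hxC
      rwa [pow_succ, sq, mul_assoc] at this
    exact mul_right_cancel (h5.trans h6.symm)
  · have h5 : y * x = 1 := by
      apply key _ (C.mul_mem hy hxC)
      rw [hconj, htw, map_smul]
      show ω • v (w : V K) = w
      rw [hw1, h4, smul_smul]
      have : ω * (ω * ω) = 1 := by linear_combination hω3
      rw [this, one_smul]
    right; right
    have h6 : (x * x) * x = 1 := by
      have := h3 x hxC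
      rwa [pow_succ, sq] at this
    exact mul_right_cancel (h5.trans h6.symm)

/-! ### the field with a cube root of one -/

theorem toE_apply_sum (g : GL (Fin 8) F) (x : V F) (i : Fin 8) :
    toE F g x i = ∑ j, (g : Matrix (Fin 8) (Fin 8) F) i j * x j := by
  rw [toE_apply]; rfl

theorem finrank_le {x : V F ≃ₗ[F] V F} (hx : x ∈ AutO F) {ω : F} (h3 : ω ^ 3 = 1) (h1 : ω ≠ 1) :
    finrank F (Module.End.eigenspace (x : V F →ₗ[F] V F) ω) ≤ 3 := by
  set W := Module.End.eigenspace (x : V F →ₗ[F] V F) ω with hW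
  have hmem : ∀ v, v ∈ W ↔ x v = ω • v := fun v => Module.End.mem_eigenspace_iff
  have hω2 : ω ^ 2 ≠ 1 := by
    intro h
    apply h1
    have : ω ^ 3 = ω ^ 2 * ω := by ring
    rw [this, h, one_mul] at h3
    exact h3
  let B : LinearMap.BilinForm F (V F) := blL F
  have hB : ∀ v w, B v w = bl v w := fun v w => blL_apply v w
  have hnd : B.Nondegenerate := by
    constructor
    · intro v hv
      exact eq_zero_of_bl (fun y => by rw [← hB]; exact hv y)
    · intro v hv
      exact eq_zero_of_bl (fun y => by rw [bl_comm, ← hB]; exact hv y)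
  have hrefl : B.IsRefl := fun v w h => by rw [hB] at h ⊢; rw [bl_comm]; exact h
  have h4 := LinearMap.BilinForm.finrank_orthogonal hnd W
  have ho : (o : V F) ∉ W := by
    intro h
    rw [hmem, map_o hx] at h
    have h5 := congrFun h 0
    rw [Pi.smul_apply, smul_eq_mul, o0, mul_one] at h5
    exact h1 h5.symm
  have h5 : W ⊔ Submodule.span F {(o : V F)} ≤ B.orthogonal W := by
    refine sup_le ?_ ?_
    · intro v hv
      rw [LinearMap.BilinForm.mem_orthogonal_iff]
      intro w hw
      show B w v = 0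
      rw [hB]
      have h6 := map_bl hx w v
      rw [(hmem w).1 hw, (hmem v).1 hv, bl_smul, bl_smul'] at h6
      have h7 : (ω ^ 2 - 1) * bl w v = 0 := by linear_combination h6
      exact (mul_eq_zero.1 h7).resolve_left (sub_ne_zero.2 hω2)
    · rw [Submodule.span_singleton_le_iff_mem, LinearMap.BilinForm.mem_orthogonal_iff]
      intro w hw
      show B w o = 0
      rw [hB, bl_o]
      have h6 := map_tr hx w
      rw [(hmem w).1 hw, tr_smul] at h6
      have h7 : (ω - 1) * tr w = 0 := by linear_combination h6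
      exact (mul_eq_zero.1 h7).resolve_left (sub_ne_zero.2 h1)
  have h6 : finrank F W + 1 ≤ finrank F (W ⊔ Submodule.span F {(o : V F)} : Submodule F (V F)) := by
    apply Submodule.finrank_lt_finrank_of_lt
    refine lt_of_le_of_ne le_sup_left ?_
    intro h
    apply ho
    rw [h]
    exact Submodule.mem_sup_right (Submodule.mem_span_singleton_self _)
  have h7 := Submodule.finrank_mono h5
  have h8 : finrank F (V F) = 8 := by simp
  rw [h8] at h4
  omega

/-- the cube root of one in `F` -/
theorem exists_root {x : GL (Fin 8) F} (hT : T3 x) {ω₀ : F} (h3 : ω₀ ^ 3 = 1) (h1 : ω₀ ≠ 1) :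
    ∃ ω : F, ω ^ 3 = 1 ∧ ω ≠ 1 ∧ DF (emb (algebraMap F K) x) (algebraMap F K ω) (algebraMap F K ω) (algebraMap F K ω) := by
  obtain ⟨ω, hω3, hω1, hDF⟩ := hT
  have hω2 : ω ^ 2 + ω + 1 = 0 := by
    have : (ω - 1) * (ω ^ 2 + ω + 1) = 0 := by linear_combination hω3
    exact (mul_eq_zero.1 this).resolve_left (sub_ne_zero.2 hω1)
  set l : K := algebraMap F K ω₀ with hl
  have hl3 : l ^ 3 = 1 := by rw [hl, ← map_pow, h3, map_one]
  have hl1 : l ≠ 1 := by
    intro h
    apply h1
    apply (algebraMap F K).injective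
    rw [map_one]
    exact h
  have h4 : (l - 1) * ((l - ω) * (l - ω * ω)) = 0 := by
    linear_combination hl3 - (l ^ 2 - l) * hω2 - (1 - l) * (hω3)
  rcases mul_eq_zero.1 h4 with h5 | h5
  · exact absurd (sub_eq_zero.1 h5) hl1
  rcases mul_eq_zero.1 h5 with h6 | h6
  · have h7 : algebraMap F K ω₀ = ω := sub_eq_zero.1 h6
    exact ⟨ω₀, h3, h1, by rw [h7]; exact hDF⟩
  · have h7 : algebraMap F K (ω₀ * ω₀) = ω := by
      rw [map_mul, ← hl, sub_eq_zero.1 h6]
      linear_combination ω * hω3
    refine ⟨ω₀ * ω₀, by rw [mul_pow, h3, one_mul], ?_, by rw [h7]; exact hDF⟩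
    intro h8
    rw [h8, map_one] at h7
    exact hω1 h7.symm

/-- **abelian subgroups of `C(x)`, `x` of type `T3`, the field containing the cube roots** -/
theorem card_le_cube {x : GL (Fin 8) F} (hxG : x ∈ Cfsg.Lie.G2 F) (hT : T3 x) {ω₀ : F} (h3 : ω₀ ^ 3 = 1)
    (h1 : ω₀ ≠ 1) (h30 : (3 : F) ≠ 0) (P : Subgroup (GL (Fin 8) F)) (hPG : P ≤ Cfsg.Lie.G2 F)
    (hPc : ∀ u ∈ P, ∀ v ∈ P, u * v = v * u) (hPx : ∀ u ∈ P, u * x = x * u) :
    Nat.card P ≤ Nat.card F ^ 3 := by
  obtain ⟨ω, hω3, hω1, h, hh, hx⟩ := exists_root hT h3 h1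
  have hxA : toE F x ∈ AutO F := toE_mem.2 hxG
  set W := Module.End.eigenspace (toE F x : V F →ₗ[F] V F) ω with hW
  have hmem : ∀ v, v ∈ W ↔ toE F x v = ω • v := fun v => Module.End.mem_eigenspace_iff
  have hfr : finrank F W ≤ 3 := finrank_le hxA hω3 hω1
  set φ : F →+* K := algebraMap F K with hφ
  -- the action on `W`
  have hinv : ∀ u ∈ P, ∀ v ∈ W, toE F u v ∈ W := by
    intro u hu v hv
    rw [hmem] at hv ⊢
    rw [← LinearEquiv.mul_apply, ← map_mul, ← hPx u hu, map_mul, LinearEquiv.mul_apply, hv, map_smul]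
  -- the action is faithful
  have hfaith : ∀ u ∈ P, (∀ v ∈ W, toE F u v = v) → u = 1 := by
    intro u hu hf
    have hproj : ∀ v : V F, v + ω ^ 2 • toE F x v + ω • toE F (x * x) v ∈ W := by
      intro v
      have hx3 : toE F x (toE F (x * x) v) = v := by
        have h5 : x ^ 3 = 1 := by
          apply emb_inj φ
          rw [map_pow, map_one]
          have h6 : DF (emb φ x) (φ ω) (φ ω) (φ ω) := ⟨h, hh, hx⟩
          have h7 : φ ω ^ 3 = 1 := by rw [← map_pow, hω3, map_one]
          exact h6.pow_one h7 h7 h7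
        rw [← LinearEquiv.mul_apply, ← map_mul, ← mul_assoc]
        have h6 : x * x * x = 1 := by rwa [pow_succ, sq] at h5
        rw [h6, map_one]
        rfl
      rw [hmem, map_add, map_add, map_smul, map_smul, hx3, ← LinearEquiv.mul_apply, ← map_mul]
      funext i
      simp only [Pi.add_apply, Pi.smul_apply, smul_eq_mul]
      linear_combination (-(toE F x v i)) * hω3
    -- over `K`
    have hK : ∀ z : V K, emb φ u (z + (φ ω) ^ 2 • emb φ x z + (φ ω) • emb φ (x * x) z) =
        z + (φ ω) ^ 2 • emb φ x z + (φ ω) • emb φ (x * x) z := by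
      have hlin : (emb φ u : V K →ₗ[K] V K) ∘ₗ (LinearMap.id + (φ ω) ^ 2 • (emb φ x : V K →ₗ[K] V K) +
          (φ ω) • (emb φ (x * x) : V K →ₗ[K] V K)) = LinearMap.id + (φ ω) ^ 2 • (emb φ x : V K →ₗ[K] V K) +
          (φ ω) • (emb φ (x * x) : V K →ₗ[K] V K) := by
        apply (Pi.basisFun K (Fin 8)).ext
        intro k
        rw [Pi.basisFun_apply]
        have h5 := hf _ (hproj (Pi.single k 1))
        have e1 : ∀ (g : GL (Fin 8) F) (v : V F), emb φ g (fun i => φ (v i)) = fun i => φ (toE F g v i) := by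
          intro g v
          funext i
          rw [emb_apply', toE_apply_sum, map_sum]
          apply Finset.sum_congr rfl
          intro j _
          rw [map_mul]
        have e2 : (Pi.single k (1 : K) : V K) = fun i => φ ((Pi.single k (1 : F) : V F) i) := by
          funext i
          by_cases hik : i = k
          · subst hik; simp
          · simp [Pi.single_apply, hik]
        have e3 : ((LinearMap.id : V K →ₗ[K] V K) + (φ ω) ^ 2 • (emb φ x : V K →ₗ[K] V K) +
            (φ ω) • (emb φ (x * x) : V K →ₗ[K] V K)) (Pi.single k 1 : V K) =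
            fun i => φ ((Pi.single k (1 : F) + ω ^ 2 • toE F x (Pi.single k 1) +
              ω • toE F (x * x) (Pi.single k 1) : V F) i) := by
          show (Pi.single k (1 : K) : V K) + (φ ω) ^ 2 • emb φ x (Pi.single k (1 : K) : V K) +
            (φ ω) • emb φ (x * x) (Pi.single k (1 : K) : V K) = _
          rw [e2, e1, e1]
          funext i
          simp only [Pi.add_apply, Pi.smul_apply, smul_eq_mul, map_add, map_mul, map_pow]
        rw [LinearMap.comp_apply, e3]
        show emb φ u _ = _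
        rw [e1, h5]
      intro z
      exact LinearMap.congr_fun hlin z
    have h30K : (3 : K) ≠ 0 := by
      intro h5
      apply h30
      apply φ.injective
      rw [map_zero]
      have : φ (3 : F) = 3 := map_ofNat φ 3
      rw [this]
      exact h5
    have hφω3 : (φ ω) ^ 3 = 1 := by rw [← map_pow, hω3, map_one]
    -- the basis vectors of `V_+`
    have hfix : ∀ j, dg (φ ω) (φ ω) (φ ω) j = φ ω → (h * emb φ u * h⁻¹) (Pi.single j 1 : V K) = Pi.single j 1 := by
      intro j hj
      show h (emb φ u (h.symm (Pi.single j 1 : V K))) = Pi.single j 1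
      have e1 : emb φ x (h.symm (Pi.single j 1 : V K)) = φ ω • h.symm (Pi.single j 1 : V K) := by
        apply h.injective
        have e2 : h (emb φ x (h.symm (Pi.single j 1 : V K))) = (h * emb φ x * h⁻¹) (Pi.single j 1 : V K) := rfl
        rw [e2, map_smul, h.apply_symm_apply]
        funext i
        rw [hx, Pi.smul_apply, smul_eq_mul]
        by_cases hij : i = j
        · rw [hij, hj]
        · rw [Pi.single_apply, if_neg hij, mul_zero, mul_zero]
      have e3 := hK (h.symm (Pi.single j 1 : V K))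
      rw [map_mul (emb φ) x x, LinearEquiv.mul_apply, e1, map_smul, e1, smul_smul, smul_smul, smul_smul] at e3
      have e4 : h.symm (Pi.single j 1 : V K) + ((φ ω) ^ 2 * φ ω) • h.symm (Pi.single j 1 : V K) +
          (φ ω * φ ω * φ ω) • h.symm (Pi.single j 1 : V K) = (3 : K) • h.symm (Pi.single j 1 : V K) := by
        have e5 : (φ ω) ^ 2 * φ ω = 1 := by linear_combination hφω3
        have e6 : φ ω * φ ω * φ ω = 1 := by linear_combination hφω3
        rw [e5, e6, one_smul]
        funext i
        simp only [Pi.add_apply, Pi.smul_apply, smul_eq_mul]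
        ring
      rw [e4, map_smul] at e3
      rw [smul_right_injective (V K) h30K e3, h.apply_symm_apply]
    have hA : h * emb φ u * h⁻¹ ∈ AutO K :=
      (AutO K).mul_mem ((AutO K).mul_mem hh (emb_mem φ (hPG hu))) ((AutO K).inv_mem hh)
    have hmu := mem_AutO.1 hA
    have p23 : zornMul (Pi.single 2 1) (Pi.single 3 1) = (Pi.single 4 1 : V K) := by
      apply ext8 <;> simp [mul0, mul1, mul2, mul3, mul4, mul5, mul6, mul7]
    have p31 : zornMul (Pi.single 3 1) (Pi.single 1 1) = (Pi.single 5 1 : V K) := by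
      apply ext8 <;> simp [mul0, mul1, mul2, mul3, mul4, mul5, mul6, mul7]
    have p12 : zornMul (Pi.single 1 1) (Pi.single 2 1) = (Pi.single 6 1 : V K) := by
      apply ext8 <;> simp [mul0, mul1, mul2, mul3, mul4, mul5, mul6, mul7]
    have f1 := hfix 1 rfl
    have f2 := hfix 2 rfl
    have f3 := hfix 3 rfl
    have h5 := eq_one_of_fix hA f1 f2 f3 (by rw [← p23, hmu, f2, f3]) (by rw [← p31, hmu, f3, f1])
      (by rw [← p12, hmu, f1, f2])
    apply emb_inj φ
    rw [map_one]
    have : emb φ u = h⁻¹ * (h * emb φ u * h⁻¹) * h := by group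
    rw [this, h5]
    group
  -- the count
  by_cases hPbot : ∀ u ∈ P, u = 1
  · have h5 : P = ⊥ := (Subgroup.eq_bot_iff_forall P).2 hPbot
    rw [h5, Subgroup.card_bot]
    exact Nat.one_le_pow _ _ Nat.card_pos
  have hnt : Nontrivial W := by
    by_contra hcon
    rw [not_nontrivial_iff_subsingleton] at hcon
    apply hPbot
    intro u hu
    apply hfaith u hu
    intro v hv
    have h5 : v = 0 := congrArg Subtype.val (Subsingleton.elim (⟨v, hv⟩ : W) 0)
    rw [h5, map_zero]
  let ρ : P →* Module.End F W :=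
    { toFun := fun u => (toE F u.1 : V F →ₗ[F] V F).restrict (hinv u.1 u.2)
      map_one' := by
        ext v : 1
        apply Subtype.ext
        show toE F (1 : GL (Fin 8) F) v = v
        rw [map_one]; rfl
      map_mul' := fun u w => by
        ext v : 1
        apply Subtype.ext
        show toE F (u.1 * w.1) v = toE F u.1 (toE F w.1 v)
        rw [map_mul]; rfl }
  have hρ : Function.Injective ρ := by
    intro u w huw
    have h5 : w⁻¹ * u = 1 := by
      apply Subtype.ext
      apply hfaith _ (w⁻¹ * u).2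
      intro v hv
      have h6 : toE F u.1 v = toE F w.1 v := congrArg Subtype.val (LinearMap.congr_fun huw ⟨v, hv⟩)
      show toE F (w.1⁻¹ * u.1) v = v
      rw [map_mul, LinearEquiv.mul_apply, h6, ← LinearEquiv.mul_apply, ← map_mul, inv_mul_cancel, map_one]
      rfl
    rw [inv_mul_eq_one] at h5
    exact h5.symm
  have hfinE : Finite (Module.End F W) := Finite.of_injective (fun f => (f : W → W)) DFunLike.coe_injective
  have hcard : Nat.card W = Nat.card F ^ finrank F W := Module.natCard_eq_pow_finrank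
  have h5 := Cfsg.Agent.H498.Ab.Lift.adjoin_schur (F := F) (R := Module.End F W) W (Set.range ρ) (by
    rintro _ ⟨u, rfl⟩ _ ⟨w, rfl⟩
    rw [← map_mul, ← map_mul]
    congr 1
    exact Subtype.ext (hPc u.1 u.2 w.1 w.2)) hcard
  have h6 : Nat.card P ≤ Nat.card (Algebra.adjoin F (Set.range ρ)) := by
    apply Nat.card_le_card_of_injective (fun u : P => (⟨ρ u, Algebra.subset_adjoin ⟨u, rfl⟩⟩ : Algebra.adjoin F (Set.range ρ)))
    intro u w huw
    exact hρ (congrArg Subtype.val huw)
  refine (h6.trans h5).trans (Nat.pow_le_pow_right Nat.card_pos ?_)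
  interval_cases (finrank F W) <;> norm_num

end Cfsg.Agent.H994.G2Three
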