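import Cfsg.Agent.H994.Ab.G2Uni
import Cfsg.Agent.H994.Ab.G2Even
import Cfsg.Agent.H994.Ab.G2Num
import Cfsg.Agent.H994.Ab.G2Three

/-!
# The row `G₂(q)` of S2501
-/

set_option autoImplicit false
set_option linter.unusedSectionVars false

namespace Cfsg.Agent.H994.AbG2

open Cfsg Cfsg.Lie Cfsg.Agent.H498.Ab Subgroup Cfsg.Agent.H161.Oct Cfsg.Agent.H994.G2Mix

/-! ### arithmetic -/

theorem n_even5 {q : ℕ} (hq : 5 ≤ q) : (q * (q * 2) * 2) ^ 3 < q ^ 6 * ((q ^ 2 - 1) ^ 2 * (q ^ 4 + q ^ 2 + 1)) := by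
  obtain ⟨t, rfl⟩ := Nat.exists_eq_add_of_le hq
  have h1 : (5 + t) ^ 2 - 1 = 1 * t ^ 2 + 10 * t + 24 := by
    have h0 : (5 + t) ^ 2 = (1 * t ^ 2 + 10 * t + 24) + 1 := by ring
    omega
  rw [h1]
  refine lt_of_lt_of_eq (Nat.lt_add_of_pos_right (k := 1 * t ^ 14 + 70 * t ^ 13 + 2274 * t ^ 12 + 45440 * t ^ 11 + 623975 * t ^ 10 + 6228750 * t ^ 9 + 46612499 * t ^ 8 + 265649960 * t ^ 7 + 1158608612 * t ^ 6 + 3848272360 * t ^ 5 + 9581963875 * t ^ 4 + 17343417500 * t ^ 3 + 21571237500 * t ^ 2 + 16502100000 * t + 5858000000) (by positivity)) ?_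
  ring

theorem n_q4 {q : ℕ} (hq : 3 ≤ q) : (q ^ 4) ^ 3 < q ^ 6 * ((q ^ 2 - 1) ^ 2 * (q ^ 4 + q ^ 2 + 1)) := by
  obtain ⟨t, rfl⟩ := Nat.exists_eq_add_of_le hq
  have h1 : (3 + t) ^ 2 - 1 = 1 * t ^ 2 + 6 * t + 8 := by
    have h0 : (3 + t) ^ 2 = (1 * t ^ 2 + 6 * t + 8) + 1 := by ring
    omega
  rw [h1]
  refine lt_of_lt_of_eq (Nat.lt_add_of_pos_right (k := 1 * t ^ 14 + 42 * t ^ 13 + 817 * t ^ 12 + 9756 * t ^ 11 + 79893 * t ^ 10 + 474606 * t ^ 9 + 2108996 * t ^ 8 + 7120848 * t ^ 7 + 18355240 * t ^ 6 + 35939664 * t ^ 5 + 52607124 * t ^ 4 + 55807920 * t ^ 3 + 40547466 * t ^ 2 + 18052956 * t + 3714255) (by positivity)) ?_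
  ring

theorem n_sq {q : ℕ} (hq : 3 ≤ q) : ((q ^ 2 - 1) ^ 2) ^ 3 < q ^ 6 * ((q ^ 2 - 1) ^ 2 * (q ^ 4 + q ^ 2 + 1)) := by
  obtain ⟨t, rfl⟩ := Nat.exists_eq_add_of_le hq
  have h1 : (3 + t) ^ 2 - 1 = 1 * t ^ 2 + 6 * t + 8 := by
    have h0 : (3 + t) ^ 2 = (1 * t ^ 2 + 6 * t + 8) + 1 := by ring
    omega
  rw [h1]
  refine lt_of_lt_of_eq (Nat.lt_add_of_pos_right (k := 1 * t ^ 14 + 42 * t ^ 13 + 817 * t ^ 12 + 9756 * t ^ 11 + 79899 * t ^ 10 + 474786 * t ^ 9 + 2111411 * t ^ 8 + 7139928 * t ^ 7 + 18453540 * t ^ 6 + 36284760 * t ^ 5 + 53443299 * t ^ 4 + 57189060 * t ^ 3 + 42036252 * t ^ 2 + 18999072 * t + 3983552) (by positivity)) ?_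
  ring

theorem n_cox {q : ℕ} (hq : 4 ≤ q) : ((q ^ 2 + q + 1) * (q + 1) ^ 2) ^ 3 < q ^ 6 * ((q ^ 2 - 1) ^ 2 * (q ^ 4 + q ^ 2 + 1)) := by
  obtain ⟨t, rfl⟩ := Nat.exists_eq_add_of_le hq
  have h1 : (4 + t) ^ 2 - 1 = 1 * t ^ 2 + 8 * t + 15 := by
    have h0 : (4 + t) ^ 2 = (1 * t ^ 2 + 8 * t + 15) + 1 := by ring
    omega
  rw [h1]
  refine lt_of_lt_of_eq (Nat.lt_add_of_pos_right (k := 1 * t ^ 14 + 56 * t ^ 13 + 1454 * t ^ 12 + 23191 * t ^ 11 + 253709 * t ^ 10 + 2012300 * t ^ 9 + 11919626 * t ^ 8 + 53478661 * t ^ 7 + 182195111 * t ^ 6 + 467399645 * t ^ 5 + 883969951 * t ^ 4 + 1184621412 * t ^ 3 + 1046925417 * t ^ 2 + 529376895 * t + 106893675) (by positivity)) ?_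
  ring

theorem n_cox3 {q : ℕ} (hq : 3 ≤ q) : (q ^ 2 + q + 1) ^ 3 < q ^ 6 * ((q ^ 2 - 1) ^ 2 * (q ^ 4 + q ^ 2 + 1)) := by
  obtain ⟨t, rfl⟩ := Nat.exists_eq_add_of_le hq
  have h1 : (3 + t) ^ 2 - 1 = 1 * t ^ 2 + 6 * t + 8 := by
    have h0 : (3 + t) ^ 2 = (1 * t ^ 2 + 6 * t + 8) + 1 := by ring
    omega
  rw [h1]
  refine lt_of_lt_of_eq (Nat.lt_add_of_pos_right (k := 1 * t ^ 14 + 42 * t ^ 13 + 818 * t ^ 12 + 9792 * t ^ 11 + 80487 * t ^ 10 + 480546 * t ^ 9 + 2149091 * t ^ 8 + 7313304 * t ^ 7 + 19028835 * t ^ 6 + 37671747 * t ^ 5 + 55854633 * t ^ 4 + 60137291 * t ^ 3 + 44442282 * t ^ 2 + 20175171 * t + 4243499) (by positivity)) ?_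
  ring

theorem n_mix {q : ℕ} (hq : 3 ≤ q) : (q ^ 2 * (q + 1) ^ 2) ^ 3 < q ^ 6 * ((q ^ 2 - 1) ^ 2 * (q ^ 4 + q ^ 2 + 1)) := by
  obtain ⟨t, rfl⟩ := Nat.exists_eq_add_of_le hq
  have h1 : (3 + t) ^ 2 - 1 = 1 * t ^ 2 + 6 * t + 8 := by
    have h0 : (3 + t) ^ 2 = (1 * t ^ 2 + 6 * t + 8) + 1 := by ring
    omega
  rw [h1]
  refine lt_of_lt_of_eq (Nat.lt_add_of_pos_right (k := 1 * t ^ 14 + 42 * t ^ 13 + 817 * t ^ 12 + 9750 * t ^ 11 + 79680 * t ^ 10 + 471166 * t ^ 9 + 2075636 * t ^ 8 + 6905022 * t ^ 7 + 17377227 * t ^ 6 + 32772384 * t ^ 5 + 45277299 * t ^ 4 + 43929540 * t ^ 3 + 27710748 * t ^ 2 + 9727776 * t + 1259712) (by positivity)) ?_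
  ring

theorem n_3q3 {q : ℕ} (hq : 3 ≤ q) : (q ^ 3 * 3) ^ 3 < q ^ 6 * ((q ^ 2 - 1) ^ 2 * (q ^ 4 + q ^ 2 + 1)) := by
  obtain ⟨t, rfl⟩ := Nat.exists_eq_add_of_le hq
  have h1 : (3 + t) ^ 2 - 1 = 1 * t ^ 2 + 6 * t + 8 := by
    have h0 : (3 + t) ^ 2 = (1 * t ^ 2 + 6 * t + 8) + 1 := by ring
    omega
  rw [h1]
  refine lt_of_lt_of_eq (Nat.lt_add_of_pos_right (k := 1 * t ^ 14 + 42 * t ^ 13 + 818 * t ^ 12 + 9792 * t ^ 11 + 80487 * t ^ 10 + 480519 * t ^ 9 + 2148362 * t ^ 8 + 7304556 * t ^ 7 + 18967600 * t ^ 6 + 37396206 * t ^ 5 + 55028133 * t ^ 4 + 58484808 * t ^ 3 + 42318936 * t ^ 2 + 18584397 * t + 3714255) (by positivity)) ?_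
  ring

theorem n_3q4 {q : ℕ} (hq : 8 ≤ q) : (q ^ 4 * 3) ^ 3 < q ^ 6 * ((q ^ 2 - 1) ^ 2 * (q ^ 4 + q ^ 2 + 1)) := by
  obtain ⟨t, rfl⟩ := Nat.exists_eq_add_of_le hq
  have h1 : (8 + t) ^ 2 - 1 = 1 * t ^ 2 + 16 * t + 63 := by
    have h0 : (8 + t) ^ 2 = (1 * t ^ 2 + 16 * t + 63) + 1 := by ring
    omega
  rw [h1]
  refine lt_of_lt_of_eq (Nat.lt_add_of_pos_right (k := 1 * t ^ 14 + 112 * t ^ 13 + 5796 * t ^ 12 + 183680 * t ^ 11 + 3981824 * t ^ 10 + 62447616 * t ^ 9 + 730447871 * t ^ 8 + 6470762432 * t ^ 7 + 43599788289 * t ^ 6 + 222197420080 * t ^ 5 + 842283066304 * t ^ 4 + 2299953162240 * t ^ 3 + 4269190213632 * t ^ 2 + 4810346790912 * t + 2473884647424) (by positivity)) ?_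
  ring

/-! ### the splitting -/

theorem split {G : Type*} [Group G] [Finite G] {p : ℕ} [hp : Fact p.Prime] {A : Subgroup G} (hA : IsMulCommutative A) :
    ∃ P C : Subgroup G, P ≤ A ∧ C ≤ A ∧ IsPGroup p P ∧ ¬ p ∣ Nat.card C ∧ Nat.card A = Nat.card P * Nat.card C := by
  obtain ⟨S⟩ : Nonempty (Sylow p A) := inferInstance
  have hn : (S : Subgroup A).Normal := by
    refine ⟨fun x hx g => ?_⟩
    have h1 : g * x * g⁻¹ = x := by
      rw [hA.is_comm.comm g x]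
      group
    rw [h1]
    exact hx
  have hcop : Nat.Coprime (Nat.card (S : Subgroup A)) (S : Subgroup A).index := S.card_coprime_index
  obtain ⟨H, hH⟩ := Subgroup.exists_right_complement'_of_coprime hcop
  have hcard := hH.card_mul_card
  refine ⟨(S : Subgroup A).map A.subtype, H.map A.subtype, map_subtype_le _, map_subtype_le _,
    S.isPGroup'.map _, ?_, ?_⟩
  · rw [Nat.card_congr (Subgroup.equivMapOfInjective H A.subtype A.subtype_injective).symm.toEquiv]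
    have h1 : (S : Subgroup A).index = Nat.card H := by
      have h2 := (S : Subgroup A).card_mul_index
      rw [← hcard] at h2
      exact Nat.eq_of_mul_eq_mul_left Nat.card_pos h2
    rw [← h1]
    exact S.not_dvd_index
  · rw [Nat.card_congr (Subgroup.equivMapOfInjective H A.subtype A.subtype_injective).symm.toEquiv,
      Nat.card_congr (Subgroup.equivMapOfInjective (S : Subgroup A) A.subtype A.subtype_injective).symm.toEquiv, hcard]

theorem exists_exp {G : Type*} [Group G] [Finite G] {A : Subgroup G} (hA : IsMulCommutative A) :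
    ∃ x ∈ A, ∀ a ∈ A, orderOf a ∣ orderOf x := by
  let _ : CommGroup A := { (inferInstance : Group A) with mul_comm := hA.is_comm.comm }
  obtain ⟨x, hx⟩ := Monoid.exists_orderOf_eq_exponent (G := A) Monoid.ExponentExists.of_finite
  refine ⟨x.1, x.2, fun a ha => ?_⟩
  have h1 := Monoid.order_dvd_exponent (⟨a, ha⟩ : A)
  rw [← hx] at h1
  rwa [← Subgroup.orderOf_coe, ← Subgroup.orderOf_coe] at h1

variable {F : Type*} [Field F] [Fintype F]

theorem ab3 (hq : 3 ≤ Fintype.card F) : Ab3 ↥(chevG2.group F) := by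
  have hfin : Finite ↥(chevG2.group F) := inferInstance
  obtain ⟨p, n, hp, hF⟩ : ∃ p n : ℕ, p.Prime ∧ Fintype.card F = p ^ n := by
    obtain ⟨r, hr⟩ := CharP.exists F
    obtain ⟨k, hk1, hk2⟩ := FiniteField.card F r
    exact ⟨r, k, hk1, hk2⟩
  have : Fact p.Prime := ⟨hp⟩
  have hn : n ≠ 0 := by
    rintro rfl
    rw [pow_zero] at hF
    omega
  have hch : CharP F p := Cfsg.Agent.H161.G2Main.charP_of_card hn hF
  intro A hA
  have hcardG := G2Num.card_eq (F := F)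
  set q := Fintype.card F with hqdef
  rw [hcardG]
  have hpq : p ∣ q := by rw [hF]; exact dvd_pow_self p hn
  have h2F : (2 : F) = 0 ↔ p = 2 := by
    have h1 := CharP.cast_eq_zero_iff F p 2
    rw [Nat.prime_dvd_prime_iff_eq hp Nat.prime_two] at h1
    exact_mod_cast h1
  have h3F : (3 : F) = 0 ↔ p = 3 := by
    have h1 := CharP.cast_eq_zero_iff F p 3
    rw [Nat.prime_dvd_prime_iff_eq hp Nat.prime_three] at h1
    exact_mod_cast h1
  -- even order, odd characteristic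
  by_cases heven : Odd q ∧ 2 ∣ Nat.card A
  · obtain ⟨hodd, h2⟩ := heven
    have h3 := G2Even.card_le hodd hA h2
    rw [← hqdef] at h3
    refine (Nat.pow_le_pow_left h3 3).trans_lt ?_
    have h4 : q ≠ 4 := by
      rintro h4
      rw [h4] at hodd
      exact absurd hodd (by decide)
    rcases Nat.lt_or_ge q 4 with h5 | h5
    · have h6 : q = 3 := by omega
      rw [h6]
      norm_num
    · have h6 : max 4 q = q := max_eq_right h5
      rw [h6]
      exact n_even5 (by omega)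
  have hoddA : p ≠ 2 → ¬ 2 ∣ Nat.card A := by
    intro h1 h2
    apply heven
    refine ⟨?_, h2⟩
    rw [hF]
    exact (hp.odd_of_ne_two h1).pow
  obtain ⟨P, C, hPA, hCA, hPp, hpC, hcardA⟩ := split (p := p) hA
  have hPc := comm_of_le hPA hA
  have hCc := comm_of_le hCA hA
  have hPle := G2Uni.card_le p hPc hPp
  rw [Nat.card_eq_fintype_card (α := F), ← hqdef] at hPle
  -- the odd order of `C`
  have hoddC : ¬ 2 ∣ Nat.card C := by
    intro h2
    by_cases hp2 : p = 2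
    · rw [hp2] at hpC
      exact hpC h2
    · exact hoddA hp2 (h2.trans (hcardA ▸ dvd_mul_left _ _))
  -- the order of `C`
  have hCdvd : Nat.card C ∣ (q ^ 2 - 1) ^ 2 * (q ^ 4 + q ^ 2 + 1) := by
    have h1 : Nat.card C ∣ q ^ 6 * ((q ^ 2 - 1) ^ 2 * (q ^ 4 + q ^ 2 + 1)) := hcardG ▸ Subgroup.card_subgroup_dvd_card C
    refine Nat.Coprime.dvd_of_dvd_mul_left ?_ h1
    apply Nat.Coprime.pow_right
    rw [hF]
    apply Nat.Coprime.pow_right
    exact ((Nat.Prime.coprime_iff_not_dvd hp).2 hpC).symm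
  have hC3 : 3 ∣ Nat.card C → ∃ k : ℕ, 3 ^ k ∣ q ^ 2 - 1 ∧ ¬ 3 ^ (2 * k + 1) ∣ Nat.card C := by
    intro h3
    refine G2Num.three_part ?_ hCc
    intro h4
    rw [h3F] at h4
    rw [h4] at hpC
    exact hpC h3
  obtain ⟨x, hxA, hxe⟩ := exists_exp hA
  obtain ⟨N, hxN, hN⟩ := Cfsg.Agent.H161.G2Main.upper (F := F) (p := p) (n := n) hF (by rw [← hF]; exact hq) ⟨x, rfl⟩
  have hq2 : p ^ (2 * n) = q ^ 2 := by rw [hF, ← pow_mul, mul_comm]
  rw [hq2, ← hF] at hN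
  have hord : ∀ c ∈ A, orderOf c ∣ N := fun c hc => (hxe c hc).trans hxN
  have hcop : ∀ c ∈ C, Nat.Coprime (orderOf c) p := by
    intro c hc
    refine ((Nat.Prime.coprime_iff_not_dvd hp).2 fun h => hpC (h.trans ?_)).symm
    have h1 := orderOf_dvd_natCard (⟨c, hc⟩ : C)
    rwa [← Subgroup.orderOf_coe] at h1
  have hpq1 : ∀ m : ℕ, p ∣ m → ¬ p ∣ m + 1 := by
    intro m h1 h2
    exact hp.one_lt.ne' (Nat.dvd_one.1 ((Nat.dvd_add_right h1).1 h2))
  have hpqm : ¬ p ∣ q - 1 := by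
    intro h1
    apply hpq1 _ h1
    have : q - 1 + 1 = q := by omega
    rw [this]
    exact hpq
  have hpqp : ¬ p ∣ q + 1 := hpq1 q hpq
  have hsqle : q ≤ q ^ 2 := Nat.le_self_pow (by norm_num) q
  have hpq2 : p ∣ q ^ 2 := hpq.trans (dvd_pow_self q (by norm_num))
  have hprime : ∀ s : ℕ, s.Prime → s ∣ Nat.card C → ∃ c ∈ C, orderOf c = s := by
    intro s hs hsd
    have : Fact s.Prime := ⟨hs⟩
    obtain ⟨c, hc⟩ := exists_prime_orderOf_dvd_card' s hsd
    exact ⟨c.1, c.2, by rw [Subgroup.orderOf_coe, hc]⟩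
  have hr : (∃ r, (r = q - 1 ∨ r = q + 1) ∧ ∀ c ∈ C, orderOf c ∣ r) ∨ ((∀ c ∈ C, orderOf c ∣ q ^ 2 - 1) ∧ ¬ p ∣ N) ∨
      ((∃ r, (r = q ^ 2 - q + 1 ∨ r = q ^ 2 + q + 1) ∧ ∀ c ∈ C, orderOf c ∣ r) ∧ ¬ p ∣ N) := by
    rcases hN with h1 | h1 | h1 | h1 | h1 | ⟨hp2, h1 | h1⟩ | ⟨-, h1⟩
    · exact Or.inl ⟨q + 1, Or.inr rfl, fun c hc => (hcop c hc).dvd_of_dvd_mul_left (h1 ▸ hord c (hCA hc))⟩
    · exact Or.inl ⟨q - 1, Or.inl rfl, fun c hc => (hcop c hc).dvd_of_dvd_mul_left (h1 ▸ hord c (hCA hc))⟩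
    · refine Or.inr (Or.inl ⟨fun c hc => h1 ▸ hord c (hCA hc), ?_⟩)
      rw [h1]
      intro h2
      apply hpq1 _ h2
      have : q ^ 2 - 1 + 1 = q ^ 2 := by omega
      rw [this]
      exact hpq2
    · refine Or.inr (Or.inr ⟨⟨_, Or.inr rfl, fun c hc => h1 ▸ hord c (hCA hc)⟩, ?_⟩)
      rw [h1]
      exact hpq1 _ (dvd_add hpq2 hpq)
    · refine Or.inr (Or.inr ⟨⟨_, Or.inl rfl, fun c hc => h1 ▸ hord c (hCA hc)⟩, ?_⟩)
      rw [h1]
      exact hpq1 _ (Nat.dvd_sub hpq2 hpq)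
    · refine Or.inl ⟨q - 1, Or.inl rfl, fun c hc => ?_⟩
      have h2 := hord c (hCA hc)
      rw [h1] at h2
      have h3 := hcop c hc
      rw [hp2] at h3
      have h4 : orderOf c ∣ 1 := (h3.pow_right 3).dvd_of_dvd_mul_right (k := orderOf c) (m := 1) (by simpa using h2)
      exact h4.trans (one_dvd _)
    · have h5 : ∀ c ∈ C, orderOf c ∣ 3 := by
        intro c hc
        have h2 := hord c (hCA hc)
        rw [h1] at h2
        have h3 := hcop c hc
        rw [hp2] at h3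
        exact (h3.pow_right 2).dvd_of_dvd_mul_left (k := orderOf c) (n := 3) (by simpa using h2)
      have h6 : ¬ 3 ∣ q := by
        intro h7
        rw [hF] at h7
        have h8 := Nat.prime_three.dvd_of_dvd_pow h7
        rw [hp2] at h8
        norm_num at h8
      by_cases h7 : 3 ∣ q + 1
      · exact Or.inl ⟨q + 1, Or.inr rfl, fun c hc => (h5 c hc).trans h7⟩
      · exact Or.inl ⟨q - 1, Or.inl rfl, fun c hc => (h5 c hc).trans (by omega)⟩
    · refine Or.inl ⟨q - 1, Or.inl rfl, fun c hc => ?_⟩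
      have h2 := hord c (hCA hc)
      rw [h1] at h2
      have h4 : orderOf c ∣ 1 := ((hcop c hc).pow_right 2).dvd_of_dvd_mul_right (k := orderOf c) (m := 1) (by simpa using h2)
      exact h4.trans (one_dvd _)
  -- the regular cases
  have hPtriv : ¬ p ∣ N → Nat.card P = 1 := by
    intro h1
    have h2 : P = ⊥ := by
      rw [Subgroup.eq_bot_iff_forall]
      intro u hu
      obtain ⟨k, hk⟩ := hPp ⟨u, hu⟩
      have hk' : u ^ p ^ k = 1 := congrArg Subtype.val hk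
      have h3 : orderOf u ∣ p ^ k := orderOf_dvd_of_pow_eq_one hk'
      have h4 : Nat.Coprime (p ^ k) N := Nat.Coprime.pow_left _ ((Nat.Prime.coprime_iff_not_dvd hp).2 h1)
      have h5 : orderOf u = 1 := Nat.dvd_one.1 (h4 ▸ Nat.dvd_gcd h3 (hord u (hPA hu)))
      exact orderOf_eq_one_iff.1 h5
    rw [h2, Subgroup.card_bot]
  rcases hr with ⟨r, hr, hrc⟩ | ⟨hrc, hpN⟩ | ⟨⟨r, hr, hrc⟩, hpN⟩
  · -- `q - 1` or `q + 1`
    have hrq : r ∣ q ^ 2 - 1 := by
      have h0 : q ^ 2 - 1 = (q - 1) * (q + 1) := by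
        have := Nat.sq_sub_sq q 1
        rw [one_pow] at this
        rw [this, mul_comm]
      rw [h0]
      rcases hr with rfl | rfl
      · exact dvd_mul_right _ _
      · exact dvd_mul_left _ _
    have hpr : ¬ p ∣ r := by rcases hr with rfl | rfl <;> assumption
    have hprr : ∀ s : ℕ, s.Prime → s ∣ Nat.card C → s ∣ r := by
      intro s hs hsd
      obtain ⟨c, hc, hcs⟩ := hprime s hs hsd
      rw [← hcs]
      exact hrc c hc
    have hCsq : Nat.card C ∣ (q ^ 2 - 1) ^ 2 :=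
      G2Num.nt_sq (by omega) hCdvd (fun s hs hsd => (hprr s hs hsd).trans hrq) hC3
    have hCle : Nat.card C ≤ (q + 1) ^ 2 := G2Num.nt_pm (by omega) hCsq hoddC hr hprr
    by_cases hC1 : C = ⊥
    · rw [hcardA, hC1, Subgroup.card_bot, mul_one]
      exact (Nat.pow_le_pow_left hPle.1 3).trans_lt (n_q4 hq)
    obtain ⟨e⟩ := Cfsg.Agent.H638.G2Iso.equiv (F := F)
    let ι : ↥(chevG2.group F) →* GL (Fin 8) F := (Cfsg.Lie.G2 F).subtype.comp e.symm.toMonoidHom
    have hι : Function.Injective ι := (Subtype.val_injective).comp e.symm.injective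
    have hιG : ∀ g, ι g ∈ Cfsg.Lie.G2 F := fun g => (e.symm g).2
    have hmapG : ∀ H : Subgroup ↥(chevG2.group F), H.map ι ≤ Cfsg.Lie.G2 F := by
      rintro H _ ⟨g, -, rfl⟩
      exact hιG g
    have hmapC : ∀ H : Subgroup ↥(chevG2.group F), Nat.card (H.map ι) = Nat.card H := fun H =>
      Nat.card_congr (Subgroup.equivMapOfInjective H ι hι).symm.toEquiv
    by_cases hex : ∃ s ∈ C, s ≠ 1 ∧ ¬ T3 (ι s)
    · obtain ⟨s, hsC, hs1, hsT⟩ := hex
      have hsr : (ι s) ^ r = 1 := by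
        rw [← map_pow, orderOf_dvd_iff_pow_eq_one.1 (hrc s hsC), map_one]
      have hs2 : (ι s) ^ 2 ≠ 1 := by
        intro h1
        rw [← map_pow] at h1
        have h2 : s ^ 2 = 1 := hι (by rw [h1, map_one])
        have h3 : orderOf s = 2 := orderOf_eq_prime h2 hs1
        apply hoddC
        have h4 := orderOf_dvd_natCard (⟨s, hsC⟩ : C)
        rwa [← Subgroup.orderOf_coe, h3] at h4
      have h1 := card_le_sq (p := p) hn hF (hιG s) (Cfsg.Agent.H161.G2Main.det_eq_one hq (hιG s)) hpr hsr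
        (by rw [← hF]; exact hrq) (P.map ι) (hmapG P) (hPp.map ι) (by
          rintro _ ⟨u, hu, rfl⟩
          rw [← map_mul, ← map_mul, comm_iff.1 hA u (hPA hu) s (hCA hsC)]) hs2 hsT
      rw [hmapC, ← hF] at h1
      rw [hcardA]
      exact (Nat.pow_le_pow_left (Nat.mul_le_mul h1 hCle) 3).trans_lt (n_mix hq)
    · push Not at hex
      have hT : ∀ s ∈ C, s ≠ 1 → s ^ 3 = 1 := by
        intro s hs hs1
        obtain ⟨ω, hω3, -, hDF⟩ := hex s hs hs1
        have h1 := hDF.pow_one hω3 hω3 hω3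
        rw [← map_pow, ← map_pow] at h1
        exact hι (emb_inj _ (by rw [h1, map_one, map_one]))
      have hC3' : Nat.card C ≤ 3 := by
        rw [← hmapC]
        refine G2Three.card_le (C.map ι) ?_ ?_ ?_
        · rintro _ ⟨a, ha, rfl⟩ _ ⟨b, hb, rfl⟩
          rw [← map_mul, ← map_mul, comm_iff.1 hCc a ha b hb]
        · rintro _ ⟨a, ha, rfl⟩
          by_cases ha1 : a = 1
          · rw [ha1, map_one, one_pow]
          · rw [← map_pow, hT a ha ha1, map_one]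
        · rintro _ ⟨a, ha, rfl⟩ ha1
          exact hex a ha (fun h => ha1 (by rw [h, map_one]))
      -- the characteristic is not three
      obtain ⟨s, hsC, hs1⟩ : ∃ s ∈ C, s ≠ 1 := by
        by_contra hcon
        push Not at hcon
        exact hC1 ((Subgroup.eq_bot_iff_forall C).2 hcon)
      have hs3 : orderOf s = 3 := orderOf_eq_prime (hT s hsC hs1) hs1
      have hp3 : p ≠ 3 := by
        intro h
        have h1 := hcop s hsC
        rw [hs3, h] at h1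
        norm_num at h1
      rw [hcardA]
      by_cases hp2 : p = 2
      · -- characteristic two
        by_cases h8 : 8 ≤ q
        · exact (Nat.pow_le_pow_left (Nat.mul_le_mul hPle.1 hC3') 3).trans_lt (n_3q4 h8)
        · have h4 : q = 4 := by
            rw [hp2] at hF
            have h5 : n < 3 := by
              by_contra h6
              push Not at h6
              have : 2 ^ 3 ≤ 2 ^ n := Nat.pow_le_pow_right (by norm_num) h6
              omega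
            interval_cases n <;> omega
          -- a cube root of one
          obtain ⟨ω, hω0, hω1⟩ : ∃ a : F, a ≠ 0 ∧ a ≠ 1 := by
            classical
            by_contra hcon
            push Not at hcon
            have h1 : Fintype.card F ≤ ({0, 1} : Finset F).card := by
              rw [← Finset.card_univ]
              refine Finset.card_le_card fun x _ => ?_
              by_cases hx : x = 0
              · simp [hx]
              · simp [hcon x hx]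
            have h2 : ({0, 1} : Finset F).card ≤ 2 := Finset.card_le_two
            omega
          have hω3 : ω ^ 3 = 1 := by
            have h5 := FiniteField.pow_card_sub_one_eq_one ω hω0
            have h6 : Fintype.card F - 1 = 3 := by omega
            rwa [h6] at h5
          have h30 : (3 : F) ≠ 0 := fun h => hp3 (h3F.1 h)
          have h1 := G2Three.card_le_cube (hιG s) (hex s hsC hs1) hω3 hω1 h30 (P.map ι) (hmapG P) (by
            rintro _ ⟨a, ha, rfl⟩ _ ⟨b, hb, rfl⟩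
            rw [← map_mul, ← map_mul, comm_iff.1 hPc a ha b hb]) (by
            rintro _ ⟨u, hu, rfl⟩
            rw [← map_mul, ← map_mul, comm_iff.1 hA u (hPA hu) s (hCA hsC)])
          rw [hmapC, Nat.card_eq_fintype_card (α := F), ← hqdef] at h1
          exact (Nat.pow_le_pow_left (Nat.mul_le_mul h1 hC3') 3).trans_lt (n_3q3 hq)
      · have h1 := hPle.2 (fun h => hp2 (h2F.1 h)) (fun h => hp3 (h3F.1 h))
        exact (Nat.pow_le_pow_left (Nat.mul_le_mul h1 hC3') 3).trans_lt (n_3q3 hq)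
  · -- `q² - 1`
    have hCsq : Nat.card C ∣ (q ^ 2 - 1) ^ 2 := by
      refine G2Num.nt_sq (by omega) hCdvd (fun s hs hsd => ?_) hC3
      obtain ⟨c, hc, hcs⟩ := hprime s hs hsd
      rw [← hcs]
      exact hrc c hc
    have h1 : 0 < (q ^ 2 - 1) ^ 2 := Nat.pow_pos (by omega)
    rw [hcardA, hPtriv hpN, one_mul]
    exact (Nat.pow_le_pow_left (Nat.le_of_dvd h1 hCsq) 3).trans_lt (n_sq hq)
  · -- `q² ± q + 1`
    obtain ⟨h1, h2⟩ := G2Num.nt_cox (by omega) hCdvd hr (fun s hs hsd => by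
      obtain ⟨c, hc, hcs⟩ := hprime s hs hsd
      rw [← hcs]
      exact hrc c hc) hC3
    rw [hcardA, hPtriv hpN, one_mul]
    by_cases h4 : 4 ≤ q
    · exact (Nat.pow_le_pow_left h1 3).trans_lt (n_cox h4)
    · have h5 : q = 3 := by omega
      have h6 : p = 3 := by
        have h7 : p ∣ 3 := by rw [← h5]; exact hpq
        exact (Nat.prime_dvd_prime_iff_eq hp Nat.prime_three).1 h7
      rw [h6] at hpC
      exact (Nat.pow_le_pow_left (h2 hpC) 3).trans_lt (n_cox3 hq)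

/-- **S2501 row `G₂(q)`.** -/
theorem ab3_G2 {G : Type*} [Group G] [Finite G] [IsSimpleGroup G] (h : Cfsg.Lie.IsoChevG2 G) : Ab3 G := by
  obtain ⟨F, _, _, hq, ⟨e⟩⟩ := h
  exact (ab3 hq).congr e.symm

end Cfsg.Agent.H994.AbG2
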