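import Cfsg.Agent.H161.G2Main
import Cfsg.Agent.Lib.PGroupFixedVector

/-!
# `p`-subgroups of `G₂(q)` centralising a semisimple element
-/

set_option autoImplicit false
set_option linter.unusedSectionVars false
set_option linter.unusedSimpArgs false

namespace Cfsg.Agent.H994.G2Mix

open Cfsg.Lie Module Cfsg.Agent.H161.Oct

/-! ### counting with a semilinear map -/

section count

variable {K : Type*} [Field K] {p : ℕ} [Fact p.Prime] [CharP K p] {X : Type*} [AddCommGroup X] [Module K X]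
  {P : Type*} [Group P] [Finite P]

theorem eq_one_of_pow {α : K} {k : ℕ} (h : α ^ p ^ k = 1) : α = 1 := by
  have h1 : (α - 1) ^ p ^ k = 0 := by rw [sub_pow_char_pow, h, one_pow, sub_self]
  exact sub_eq_zero.1 (eq_zero_of_pow_eq_zero h1)

theorem exists_comb {W : Submodule K X} [FiniteDimensional K W] (h2 : finrank K W ≤ 2) {v w : X} (hv : v ∈ W)
    (hw : w ∈ W) (hv0 : v ≠ 0) (hvw : ∀ c : K, w ≠ c • v) : ∀ x ∈ W, ∃ α β : K, x = α • w + β • v := by
  intro x hx
  have hli : LinearIndependent K ![(⟨w, hw⟩ : W), ⟨v, hv⟩] := by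
    rw [LinearIndependent.pair_iff]
    intro s t hst
    have hst' : s • w + t • v = 0 := congrArg Subtype.val hst
    have hs : s = 0 := by
      by_contra hs
      apply hvw (-(s⁻¹ * t))
      have h3 : w = s⁻¹ • (s • w) := by rw [smul_smul, inv_mul_cancel₀ hs, one_smul]
      have h4 : s • w = -(t • v) := eq_neg_of_add_eq_zero_left hst'
      rw [h3, h4, smul_neg, smul_smul, neg_smul]
    refine ⟨hs, ?_⟩
    rw [hs, zero_smul, zero_add] at hst'
    exact (smul_eq_zero.1 hst').resolve_right hv0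
  have h3 : finrank K W = 2 := le_antisymm h2 (by
    have := hli.fintype_card_le_finrank
    simpa using this)
  have hspan := hli.span_eq_top_of_card_eq_finrank' (by rw [h3]; simp)
  have h4 : (⟨x, hx⟩ : W) ∈ Submodule.span K (Set.range ![(⟨w, hw⟩ : W), ⟨v, hv⟩]) := by rw [hspan]; trivial
  rw [Matrix.range_cons, Matrix.range_cons, Matrix.range_empty, Set.union_empty, Set.singleton_union,
    Submodule.mem_span_pair] at h4
  obtain ⟨α, β, h5⟩ := h4
  exact ⟨α, β, (congrArg Subtype.val h5).symm⟩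

theorem card_le_of_semilinear (hP : IsPGroup p P) (ρ : Representation K P X) (W : Submodule K X)
    [FiniteDimensional K W] (h2 : finrank K W ≤ 2) (hW : ∀ g, ∀ v ∈ W, ρ g v ∈ W)
    (hf : ∀ g, (∀ v ∈ W, ρ g v = v) → g = 1) (σ : X → X) (hadd : ∀ x y, σ (x + y) = σ x + σ y) {Q : ℕ} (hQ : 1 < Q)
    (hsm : ∀ (c : K) x, σ (c • x) = c ^ Q • σ x) (hinj : ∀ x, σ x = 0 → x = 0) (hσW : ∀ x ∈ W, σ x ∈ W)
    (hcomm : ∀ g x, σ (ρ g x) = ρ g (σ x)) : Nat.card P ≤ Q := by
  classical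
  by_cases htriv : ∀ g : P, g = 1
  · have : Subsingleton P := ⟨fun a b => by rw [htriv a, htriv b]⟩
    have h1 : Nat.card P = 1 := Nat.card_unique
    omega
  have hW0 : W ≠ ⊥ := by
    rintro rfl
    apply htriv
    intro g
    apply hf
    intro v hv
    rw [(Submodule.mem_bot K).1 hv, map_zero]
  obtain ⟨v, hvW, hv0, hvf⟩ := Cfsg.Agent.Lib.PGroupFixedVector.exists_mem_ne_zero_fixed_rep hP ρ W hW hW0
  obtain ⟨w, hwW, hw⟩ : ∃ w ∈ W, ∀ c : K, w ≠ c • v := by
    by_contra hcon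
    push Not at hcon
    apply htriv
    intro g
    apply hf
    intro x hx
    obtain ⟨c, rfl⟩ := hcon x hx
    rw [map_smul, hvf]
  have hcomb := exists_comb h2 hvW hwW hv0 hw
  -- uniqueness of the coordinates
  have huniq : ∀ α β : K, α • w + β • v = 0 → α = 0 ∧ β = 0 := by
    intro α β h
    have hα : α = 0 := by
      by_contra hα
      apply hw (-(α⁻¹ * β))
      have h3 : w = α⁻¹ • (α • w) := by rw [smul_smul, inv_mul_cancel₀ hα, one_smul]
      have h4 : α • w = -(β • v) := eq_neg_of_add_eq_zero_left h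
      rw [h3, h4, smul_neg, smul_smul, neg_smul]
    refine ⟨hα, ?_⟩
    rw [hα, zero_smul, zero_add] at h
    exact (smul_eq_zero.1 h).resolve_right hv0
  -- the action on `w`
  have hact : ∀ g : P, ∃ l : K, ρ g w = w + l • v := by
    intro g
    obtain ⟨α, β, h3⟩ := hcomb _ (hW g w hwW)
    have hpow : ∀ m : ℕ, ∃ γ : K, ρ (g ^ m) w = α ^ m • w + γ • v := by
      intro m
      induction m with
      | zero => exact ⟨0, by simp⟩
      | succ m ih =>
        obtain ⟨γ, hγ⟩ := ih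
        refine ⟨α ^ m * β + γ, ?_⟩
        rw [pow_succ', map_mul, Module.End.mul_apply, hγ, map_add, map_smul, map_smul, h3, hvf, smul_add, smul_smul,
          smul_smul, pow_succ, add_assoc, ← add_smul]
    obtain ⟨k, hk⟩ := hP g
    obtain ⟨γ, hγ⟩ := hpow (p ^ k)
    rw [hk, map_one, Module.End.one_apply] at hγ
    have h4 : (α ^ p ^ k - 1) • w + γ • v = 0 := by
      rw [sub_smul, one_smul]
      nth_rw 2 [hγ]
      abel
    have h5 := (huniq _ _ h4).1
    have h6 : α = 1 := eq_one_of_pow (p := p) (k := k) (by linear_combination h5)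
    exact ⟨β, by rw [h3, h6, one_smul]⟩
  choose l hl using hact
  have hlinj : Function.Injective l := by
    intro g g' hgg
    have h3 : ∀ x ∈ W, ρ g x = ρ g' x := by
      intro x hx
      obtain ⟨α, β, rfl⟩ := hcomb x hx
      rw [map_add, map_add, map_smul, map_smul, map_smul, map_smul, hl, hl, hvf, hvf, hgg]
    have h4 : g'⁻¹ * g = 1 := by
      apply hf
      intro x hx
      rw [map_mul, Module.End.mul_apply, h3 x hx, ← Module.End.mul_apply, ← map_mul]
      simp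
    rw [inv_mul_eq_one] at h4
    exact h4.symm
  -- `σ v`
  obtain ⟨c, hc⟩ : ∃ c : K, σ v = c • v := by
    obtain ⟨α, β, h3⟩ := hcomb _ (hσW v hvW)
    have hα : α = 0 := by
      by_contra hα
      apply htriv
      intro g
      apply hf
      have h4 : ρ g (σ v) = σ v := by rw [← hcomm, hvf]
      rw [h3, map_add, map_smul, map_smul, hl, hvf, smul_add, smul_smul] at h4
      have h5 : (α * l g) • v = 0 := by
        have : α • w + (α * l g) • v + β • v - (α • w + β • v) = 0 := by rw [h4, sub_self]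
        rw [← this]; abel
      have h6 : α * l g = 0 := (smul_eq_zero.1 h5).resolve_right hv0
      have h7 : l g = 0 := (mul_eq_zero.1 h6).resolve_left hα
      intro x hx
      obtain ⟨α', β', rfl⟩ := hcomb x hx
      rw [map_add, map_smul, map_smul, hl, hvf, h7, zero_smul, add_zero]
    exact ⟨β, by rw [h3, hα, zero_smul, zero_add]⟩
  have hc0 : c ≠ 0 := by
    rintro rfl
    rw [zero_smul] at hc
    exact hv0 (hinj v hc)
  obtain ⟨d, e, hde⟩ := hcomb _ (hσW w hwW)
  have hroot : ∀ g, c * l g ^ Q - d * l g = 0 := by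
    intro g
    have h3 := hcomm g w
    rw [hl, hadd, hsm, hc, hde, map_add, map_smul, map_smul, hl, hvf, smul_add, smul_smul, smul_smul] at h3
    have h4 : (c * l g ^ Q - d * l g) • v = 0 := by
      have : (d • w + e • v + (l g ^ Q * c) • v) - (d • w + (d * l g) • v + e • v) = 0 := by rw [h3, sub_self]
      rw [← this, sub_smul, mul_comm c]
      abel
    exact (smul_eq_zero.1 h4).resolve_right hv0
  -- the polynomial
  set f : Polynomial K := Polynomial.C c * Polynomial.X ^ Q - Polynomial.C d * Polynomial.X with hfdef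
  have hf0 : f ≠ 0 := by
    intro h
    have h3 : f.coeff Q = c := by
      rw [hfdef, Polynomial.coeff_sub, Polynomial.coeff_C_mul, Polynomial.coeff_X_pow_self, mul_one,
        Polynomial.coeff_C_mul, Polynomial.coeff_X, if_neg (by omega), mul_zero, sub_zero]
    rw [h, Polynomial.coeff_zero] at h3
    exact hc0 h3.symm
  have hdeg : f.natDegree ≤ Q := by
    rw [hfdef]
    refine (Polynomial.natDegree_sub_le _ _).trans (max_le ?_ ?_)
    · exact (Polynomial.natDegree_C_mul_le _ _).trans (Polynomial.natDegree_X_pow_le _)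
    · exact (Polynomial.natDegree_C_mul_le _ _).trans (Polynomial.natDegree_X_le.trans (by omega))
  have hmem : ∀ g, l g ∈ f.roots.toFinset := by
    intro g
    rw [Multiset.mem_toFinset, Polynomial.mem_roots hf0, Polynomial.IsRoot.def, hfdef]
    simpa using hroot g
  have := Fintype.ofFinite P
  rw [Nat.card_eq_fintype_card, ← Finset.card_univ]
  calc (Finset.univ : Finset P).card ≤ f.roots.toFinset.card :=
        Finset.card_le_card_of_injOn l (fun g _ => hmem g) (fun a _ b _ h => hlinj h)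
    _ ≤ Multiset.card f.roots := Multiset.toFinset_card_le _
    _ ≤ f.natDegree := Polynomial.card_roots' f
    _ ≤ Q := hdeg

end count

/-! ### diagonal elements -/

section diag

variable {K : Type*} [Field K]

theorem cyc_det : (!![0, 1, 0; 0, 0, 1; 1, 0, 0] : Matrix (Fin 3) (Fin 3) K).det = 1 := by
  rw [det3]; simp

/-- `h s h⁻¹ = diag (a, b, c)` -/
def DF (s : V K ≃ₗ[K] V K) (a b c : K) : Prop := ∃ h ∈ AutO K, ∀ x j, (h * s * h⁻¹) x j = dg a b c j * x j

theorem DF.cyc {s : V K ≃ₗ[K] V K} {a b c : K} (h : DF s a b c) : DF s b c a := by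
  obtain ⟨h, hh, hx⟩ := h
  set g : V K ≃ₗ[K] V K := sl (!![0, 1, 0; 0, 0, 1; 1, 0, 0] : Matrix (Fin 3) (Fin 3) K) cyc_det with hg
  have hgm : g ∈ AutO K := sl_mem _ _
  refine ⟨g * h, (AutO K).mul_mem hgm hh, ?_⟩
  intro x j
  obtain ⟨y, rfl⟩ : ∃ y, x = g y := ⟨g.symm x, (g.apply_symm_apply x).symm⟩
  have e1 : (g * h * s * (g * h)⁻¹) (g y) = g ((h * s * h⁻¹) y) := by
    have : g * h * s * (g * h)⁻¹ = g * (h * s * h⁻¹) * g⁻¹ := by group
    rw [this, LinearEquiv.mul_apply, LinearEquiv.mul_apply]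
    congr 2
    show g.symm (g y) = y
    exact g.symm_apply_apply y
  have e2 : ∀ z : V K, g z 0 = z 0 ∧ g z 1 = z 2 ∧ g z 2 = z 3 ∧ g z 3 = z 1 ∧ g z 4 = z 5 ∧ g z 5 = z 6 ∧
      g z 6 = z 4 ∧ g z 7 = z 7 := by
    intro z
    rw [hg, sl_apply]
    refine ⟨?_, ?_, ?_, ?_, ?_, ?_, ?_, ?_⟩
    · rw [slF0]
    · rw [slF1]; simp
    · rw [slF2]; simp
    · rw [slF3]; simp
    · rw [slF4]; simp
    · rw [slF5]; simp
    · rw [slF6]; simp
    · rw [slF7]
  rw [e1]
  obtain ⟨f0, f1, f2, f3, f4, f5, f6, f7⟩ := e2 ((h * s * h⁻¹) y)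
  obtain ⟨g0, g1, g2, g3, g4, g5, g6, g7⟩ := e2 y
  fin_cases j
  · show g ((h * s * h⁻¹) y) 0 = dg b c a 0 * g y 0
    rw [f0, hx, g0]; rfl
  · show g ((h * s * h⁻¹) y) 1 = dg b c a 1 * g y 1
    rw [f1, hx, g1]; rfl
  · show g ((h * s * h⁻¹) y) 2 = dg b c a 2 * g y 2
    rw [f2, hx, g2]; rfl
  · show g ((h * s * h⁻¹) y) 3 = dg b c a 3 * g y 3
    rw [f3, hx, g3]; rfl
  · show g ((h * s * h⁻¹) y) 4 = dg b c a 4 * g y 4
    rw [f4, hx, g4]; rfl
  · show g ((h * s * h⁻¹) y) 5 = dg b c a 5 * g y 5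
    rw [f5, hx, g5]; rfl
  · show g ((h * s * h⁻¹) y) 6 = dg b c a 6 * g y 6
    rw [f6, hx, g6]; rfl
  · show g ((h * s * h⁻¹) y) 7 = dg b c a 7 * g y 7
    rw [f7, hx, g7]; rfl

theorem eq_one_of_fix {u : V K ≃ₗ[K] V K} (hu : u ∈ AutO K) (f1 : u (Pi.single 1 1) = Pi.single 1 1)
    (f2 : u (Pi.single 2 1) = Pi.single 2 1) (f3 : u (Pi.single 3 1) = Pi.single 3 1)
    (f4 : u (Pi.single 4 1) = Pi.single 4 1) (f5 : u (Pi.single 5 1) = Pi.single 5 1)
    (f6 : u (Pi.single 6 1) = Pi.single 6 1) : u = 1 := by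
  have hmu := mem_AutO.1 hu
  have p14 : zornMul (Pi.single 1 1) (Pi.single 4 1) = (Pi.single 0 1 : V K) := by
    apply ext8 <;> simp [mul0, mul1, mul2, mul3, mul4, mul5, mul6, mul7]
  have f0 : u (Pi.single 0 1) = Pi.single 0 1 := by rw [← p14, hmu, f1, f4]
  have f7 : u (Pi.single 7 1) = Pi.single 7 1 := by
    have h4 : (Pi.single 7 1 : V K) = o - Pi.single 0 1 := by
      apply ext8 <;> simp [o]
    rw [h4, map_sub, f0, map_o hu]
  have hN : nil u = 0 := by
    apply eq_zero_of_single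
    intro i
    rw [nil_apply, sub_eq_zero]
    fin_cases i <;> assumption
  ext1 x
  have := LinearMap.congr_fun hN x
  rw [nil_apply] at this
  exact sub_eq_zero.1 this

/-- the dual eigenspace -/
theorem dual_fix {a b c : K} {t u : V K ≃ₗ[K] V K} (ht : ∀ x j, t x j = dg a b c j * x j)
    (htu : ∀ x, u (t x) = t (u x)) (hu : u ∈ AutO K) {μ : K} (hf : ∀ x ∈ Wl a b c μ, u x = x) :
    ∀ y ∈ Wl a b c μ⁻¹, u y = y := by
  intro y hy
  have hw : u y - y ∈ Wl a b c μ⁻¹ := (Wl a b c μ⁻¹).sub_mem (map_Wl ht htu hy) hy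
  have h0 : ∀ j, (u y - y) j = 0 := by
    intro j
    by_cases hj : dg a b c j = μ⁻¹
    · obtain ⟨j', h1, h2⟩ := bl_single (u y - y) j
      have h3 : (Pi.single j' 1 : V K) ∈ Wl a b c μ := by
        have := single_mem_Wl a b c j'
        rwa [h1, hj, inv_inv] at this
      have h4 : bl (u y - y) (Pi.single j' 1) = 0 := by
        have e1 : bl (u y - y) (Pi.single j' 1) = bl (u y) (Pi.single j' 1) - bl y (Pi.single j' 1) := by
          simp only [bl, Pi.sub_apply]; ring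
        have e2 : bl (u y) (Pi.single j' 1) = bl y (Pi.single j' 1) := by
          nth_rw 1 [← hf _ h3]
          exact map_bl hu _ _
        rw [e1, e2, sub_self]
      rcases h2 with h2 | h2
      · rw [← h2, h4]
      · rw [h4] at h2
        exact neg_eq_zero.1 h2.symm
    · exact hw j hj
  have : u y - y = 0 := funext h0
  exact sub_eq_zero.1 this

/-- the essential eigenvalue of a singular element -/
theorem exists_mu {a b c : K} (habc : a * b * c = 1) (h2 : ¬ (a ^ 2 = 1 ∧ b ^ 2 = 1 ∧ c ^ 2 = 1))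
    (h3 : ¬ (a = b ∧ b = c)) (hs : a = 1 ∨ a = b) :
    ∃ μ : K, (μ = a ∨ μ = b) ∧ mult a b c μ ≤ 2 ∧ ∀ t u : V K ≃ₗ[K] V K, (∀ x j, t x j = dg a b c j * x j) →
      (∀ x, u (t x) = t (u x)) → u ∈ AutO K → (∀ x ∈ Wl a b c μ, u x = x) → u = 1 := by
  classical
  have p23 : zornMul (Pi.single 2 1) (Pi.single 3 1) = (Pi.single 4 1 : V K) := by
    apply ext8 <;> simp [mul0, mul1, mul2, mul3, mul4, mul5, mul6, mul7]
  have p12 : zornMul (Pi.single 1 1) (Pi.single 2 1) = (Pi.single 6 1 : V K) := by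
    apply ext8 <;> simp [mul0, mul1, mul2, mul3, mul4, mul5, mul6, mul7]
  have p56 : zornMul (Pi.single 6 1) (Pi.single 5 1) = (Pi.single 1 1 : V K) := by
    apply ext8 <;> simp [mul0, mul1, mul2, mul3, mul4, mul5, mul6, mul7]
  have p45 : zornMul (Pi.single 5 1) (Pi.single 4 1) = (Pi.single 3 1 : V K) := by
    apply ext8 <;> simp [mul0, mul1, mul2, mul3, mul4, mul5, mul6, mul7]
  have ha0 : a ≠ 0 := by rintro rfl; simp at habc
  have hb0 : b ≠ 0 := by rintro rfl; simp at habc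
  have hc0 : c ≠ 0 := by rintro rfl; simp at habc
  have hsq : ∀ x : K, x ≠ 0 → x = x⁻¹ → x ^ 2 = 1 := by
    intro x hx h
    rw [sq]
    nth_rw 2 [h]
    exact mul_inv_cancel₀ hx
  rcases hs with rfl | rfl
  · -- `a = 1`
    have hc : c = b⁻¹ := by
      rw [one_mul] at habc
      exact eq_inv_of_mul_eq_one_right habc
    have hb : b ≠ b⁻¹ := by
      intro h
      have h1 := hsq b hb0 h
      exact h2 ⟨one_pow 2, h1, by rw [hc, inv_pow, h1, inv_one]⟩
    have hb1 : (1 : K) ≠ b := by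
      rintro rfl
      exact hb inv_one.symm
    refine ⟨b, Or.inr rfl, ?_, ?_⟩
    · rw [mult_eq, if_neg hb1, cnt_zero' hb1 (by rw [inv_one]; exact hb1)]
      have h4 := cnt_le_one (x := b) hb
      have h5 := cnt_le_one (x := c) hb
      omega
    · intro t u ht htu hu hf
      have hf' := dual_fix ht htu hu hf
      have hmu := mem_AutO.1 hu
      have f2 : u (Pi.single 2 1) = Pi.single 2 1 := hf _ (single_mem_Wl 1 b c 2)
      have f6 : u (Pi.single 6 1) = Pi.single 6 1 := by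
        apply hf
        have h4 := single_mem_Wl 1 b c 6
        have h5 : dg 1 b c 6 = b := by
          show c⁻¹ = b
          rw [hc, inv_inv]
        rwa [h5] at h4
      have f5 : u (Pi.single 5 1) = Pi.single 5 1 := hf' _ (single_mem_Wl 1 b c 5)
      have f3 : u (Pi.single 3 1) = Pi.single 3 1 := by
        apply hf'
        have h4 := single_mem_Wl 1 b c 3
        have h5 : dg 1 b c 3 = b⁻¹ := hc
        rwa [h5] at h4
      exact eq_one_of_fix hu (by rw [← p56, hmu, f6, f5]) f2 f3 (by rw [← p23, hmu, f2, f3]) f5 f6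
  · -- `a = b`
    have hc : c = (a * a)⁻¹ := eq_inv_of_mul_eq_one_right habc
    have ha : a ≠ a⁻¹ := by
      intro h
      have h1 := hsq a ha0 h
      refine h2 ⟨h1, h1, ?_⟩
      rw [hc, ← sq, h1, inv_one, one_pow]
    have ha1 : (1 : K) ≠ a := by
      rintro rfl
      exact ha inv_one.symm
    have hca : c ≠ a := fun h => h3 ⟨rfl, h.symm⟩
    have hca' : c⁻¹ ≠ a := by
      intro h
      rw [hc, inv_inv] at h
      exact ha1 (mul_left_cancel₀ ha0 (by rw [mul_one]; exact h.symm))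
    refine ⟨a, Or.inl rfl, ?_, ?_⟩
    · rw [mult_eq, if_neg ha1, cnt_zero' hca hca']
      have h4 := cnt_le_one (x := a) ha
      omega
    · intro t u ht htu hu hf
      have hf' := dual_fix ht htu hu hf
      have hmu := mem_AutO.1 hu
      have f1 : u (Pi.single 1 1) = Pi.single 1 1 := hf _ (single_mem_Wl a a c 1)
      have f2 : u (Pi.single 2 1) = Pi.single 2 1 := hf _ (single_mem_Wl a a c 2)
      have f4 : u (Pi.single 4 1) = Pi.single 4 1 := hf' _ (single_mem_Wl a a c 4)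
      have f5 : u (Pi.single 5 1) = Pi.single 5 1 := hf' _ (single_mem_Wl a a c 5)
      exact eq_one_of_fix hu f1 f2 (by rw [← p45, hmu, f5, f4]) f4 f5 (by rw [← p12, hmu, f1, f2])

end diag

/-! ### finite fields -/

section field

variable {F : Type*} [Field F] [Fintype F] {p n : ℕ} [hp : Fact p.Prime]

/-- the type of a central element of `SL₃^±` -/
def T3 (s : GL (Fin 8) F) : Prop :=
  ∃ ω : AlgebraicClosure F, ω ^ 3 = 1 ∧ ω ≠ 1 ∧ DF (emb (algebraMap F (AlgebraicClosure F)) s) ω ω ω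

theorem DF.pow_one {K : Type*} [Field K] {s : V K ≃ₗ[K] V K} {a b c : K} (h : DF s a b c) {N : ℕ} (ha : a ^ N = 1)
    (hb : b ^ N = 1) (hc : c ^ N = 1) : s ^ N = 1 := by
  obtain ⟨g, -, hg⟩ := h
  exact conj_pow_one (diag_pow_one hg ha hb hc)

theorem DF.pow_eq {K : Type*} [Field K] {s : V K ≃ₗ[K] V K} {a b c : K} (h : DF s a b c) {N : ℕ} (hs : s ^ N = 1) :
    a ^ N = 1 ∧ b ^ N = 1 ∧ c ^ N = 1 := by
  obtain ⟨g, -, hg⟩ := h
  have h1 : (g * s * g⁻¹) ^ N = 1 := by rw [conj_pow, hs]; simp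
  have h2 : ∀ j, dg a b c j ^ N = 1 := by
    intro j
    have h3 := diag_pow hg N (Pi.single j 1) j
    rw [h1] at h3
    have h4 : (1 : V K ≃ₗ[K] V K) (Pi.single j 1) j = 1 := by
      show (Pi.single j (1 : K) : V K) j = 1
      rw [Pi.single_eq_same]
    rw [h4, Pi.single_eq_same, mul_one] at h3
    exact h3.symm
  exact ⟨h2 1, h2 2, h2 3⟩

theorem emb_apply' {K : Type*} [Field K] (φ : F →+* K) (g : GL (Fin 8) F) (x : V K) (i : Fin 8) :
    emb φ g x i = ∑ j, φ ((g : Matrix (Fin 8) (Fin 8) F) i j) * x j := by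
  show (toE K (Matrix.GeneralLinearGroup.map φ g)) x i = _
  rw [toE_apply]
  rfl

theorem frob_comm {K : Type*} [Field K] [CharP K p] (hF : Fintype.card F = p ^ n) (φ : F →+* K) (g : GL (Fin 8) F)
    (k : ℕ) (x : V K) : (fun i => (emb φ g x i) ^ (p ^ n) ^ k) = emb φ g (fun i => x i ^ (p ^ n) ^ k) := by
  funext i
  rw [emb_apply', emb_apply', ← pow_mul, sum_pow_char_pow]
  apply Finset.sum_congr rfl
  intro j _
  rw [mul_pow, pow_mul, ← hF, ← map_pow, FiniteField.pow_card_pow]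

theorem singular {K : Type*} [Field K] [CharP K p] {s u : V K ≃ₗ[K] V K} {a b c : K} (habc : a * b * c = 1)
    (hs : DF s a b c) (hu : u ∈ AutO K) (hu1 : u ≠ 1) {k : ℕ} (huk : u ^ p ^ k = 1) (hsu : u * s = s * u) :
    a = 1 ∨ b = 1 ∨ c = 1 ∨ a = b ∨ b = c ∨ a = c := by
  obtain ⟨h, hh, hx⟩ := hs
  by_contra hcon
  push Not at hcon
  obtain ⟨h1, h2, h3, h4, h5, h6⟩ := hcon
  set v := h * u * h⁻¹ with hv
  have hvA : v ∈ AutO K := (AutO K).mul_mem ((AutO K).mul_mem hh hu) ((AutO K).inv_mem hh)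
  have hcomm : ∀ x, v ((h * s * h⁻¹) x) = (h * s * h⁻¹) (v x) := by
    intro x
    rw [← LinearEquiv.mul_apply, ← LinearEquiv.mul_apply]
    have : v * (h * s * h⁻¹) = (h * s * h⁻¹) * v := by
      rw [hv]
      calc h * u * h⁻¹ * (h * s * h⁻¹) = h * (u * s) * h⁻¹ := by group
        _ = h * (s * u) * h⁻¹ := by rw [hsu]
        _ = _ := by group
    rw [this]
  have hvk : v ^ p ^ k = 1 := by rw [hv, conj_pow, huk]; simp
  have hv1 := regular hx hcomm hvA (nil_nilpotent hvk) habc h1 h2 h3 h4 h5 h6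
  apply hu1
  rw [hv] at hv1
  have : u = h⁻¹ * (h * u * h⁻¹) * h := by group
  rw [this, hv1]
  group

/-- the count -/
theorem card_le_aux {K : Type*} [Field K] [CharP K p] (hn : n ≠ 0) (hF : Fintype.card F = p ^ n) (φ : F →+* K)
    {s : GL (Fin 8) F} {a b c : K} (habc : a * b * c = 1) (hDF : DF (emb φ s) a b c) {m : ℕ}
    (hsm : s ^ m = 1) (hmq : m ∣ (p ^ n) ^ 2 - 1) (P : Subgroup (GL (Fin 8) F)) (hPG : P ≤ Cfsg.Lie.G2 F)
    (hPp : IsPGroup p P) (hPs : ∀ u ∈ P, u * s = s * u) (h2 : ¬ (a ^ 2 = 1 ∧ b ^ 2 = 1 ∧ c ^ 2 = 1))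
    (h3 : ¬ (a = b ∧ b = c)) (hs : a = 1 ∨ a = b) : Nat.card P ≤ (p ^ n) ^ 2 := by
  obtain ⟨ha, hb, hc⟩ := hDF.pow_eq (N := m) (by rw [← map_pow, hsm, map_one])
  obtain ⟨μ, hμ, hmult, hkey⟩ := exists_mu habc h2 h3 hs
  have hμm : μ ^ m = 1 := by rcases hμ with rfl | rfl <;> assumption
  have hq1 : 1 < p ^ n := Nat.one_lt_pow hn hp.out.one_lt
  have hQ : 1 < (p ^ n) ^ 2 := Nat.one_lt_pow (by norm_num) hq1
  have hμQ : μ ^ (p ^ n) ^ 2 = μ := by
    obtain ⟨r, hr⟩ := hmq
    have : (p ^ n) ^ 2 = m * r + 1 := by omega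
    rw [this, pow_succ, pow_mul, hμm, one_pow, one_mul]
  obtain ⟨h, hh, hx⟩ := hDF
  set f := emb φ s with hf
  let W : Submodule K (V K) := Module.End.eigenspace (f : V K →ₗ[K] V K) μ
  have hWmem : ∀ x, x ∈ W ↔ f x = μ • x := fun x => Module.End.mem_eigenspace_iff
  have hth : ∀ x, (h * f * h⁻¹) (h x) = h (f x) := by
    intro x
    show h (f (h.symm (h x))) = h (f x)
    rw [h.symm_apply_apply]
  have hWl : ∀ x, x ∈ W ↔ h x ∈ Wl a b c μ := by
    intro x
    rw [hWmem]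
    constructor
    · intro h1 j hj
      have h4 := congrFun (hth x) j
      rw [hx, h1, map_smul, Pi.smul_apply, smul_eq_mul] at h4
      have h5 : (dg a b c j - μ) * h x j = 0 := by linear_combination h4
      exact (mul_eq_zero.1 h5).resolve_left (sub_ne_zero.2 hj)
    · intro h1
      apply h.injective
      rw [← hth, map_smul]
      funext j
      rw [hx, Pi.smul_apply, smul_eq_mul]
      by_cases hj : dg a b c j = μ
      · rw [hj]
      · rw [h1 j hj, mul_zero, mul_zero]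
  have hfin : finrank K W ≤ 2 := by
    have h1 : W ≤ (Wl a b c μ).map (h.symm : V K →ₗ[K] V K) := by
      intro x hxW
      exact ⟨h x, (hWl x).1 hxW, h.symm_apply_apply x⟩
    exact (Submodule.finrank_mono h1).trans ((Submodule.finrank_map_le _ _).trans ((finrank_Wl a b c μ).trans hmult))
  let ρ : Representation K P (V K) :=
    (LinearEquiv.automorphismGroup.toLinearMapMonoidHom (R := K) (M := V K)).comp ((emb φ).comp P.subtype)
  have hρ : ∀ (g : P) (x : V K), ρ g x = emb φ g.1 x := fun _ _ => rfl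
  have hgs : ∀ (g : P) (x : V K), f (emb φ g.1 x) = emb φ g.1 (f x) := by
    intro g x
    rw [hf, ← LinearEquiv.mul_apply, ← LinearEquiv.mul_apply, ← map_mul, ← map_mul, hPs g.1 g.2]
  refine card_le_of_semilinear (p := p) hPp ρ W hfin ?_ ?_ (fun x i => x i ^ (p ^ n) ^ 2) ?_ hQ ?_ ?_ ?_ ?_
  · intro g v hv
    rw [hWmem] at hv ⊢
    rw [hρ, hgs, hv, map_smul]
  · intro g hg
    have h1 : h * emb φ g.1 * h⁻¹ = 1 := by
      refine hkey (h * f * h⁻¹) _ hx ?_ ?_ ?_
      · intro x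
        rw [← LinearEquiv.mul_apply, ← LinearEquiv.mul_apply]
        have h4 : emb φ g.1 * f = f * emb φ g.1 := by rw [hf, ← map_mul, ← map_mul, hPs g.1 g.2]
        have h5 : h * emb φ g.1 * h⁻¹ * (h * f * h⁻¹) = h * f * h⁻¹ * (h * emb φ g.1 * h⁻¹) := by
          calc h * emb φ g.1 * h⁻¹ * (h * f * h⁻¹) = h * (emb φ g.1 * f) * h⁻¹ := by group
            _ = h * (f * emb φ g.1) * h⁻¹ := by rw [h4]
            _ = _ := by group
        rw [h5]
      · exact (AutO K).mul_mem ((AutO K).mul_mem hh (emb_mem φ (hPG g.2))) ((AutO K).inv_mem hh)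
      · intro x hxW
        show h (emb φ g.1 (h.symm x)) = x
        have h4 : h.symm x ∈ W := by rw [hWl, h.apply_symm_apply]; exact hxW
        have h5 := hg _ h4
        rw [hρ] at h5
        rw [h5, h.apply_symm_apply]
    have h2 : emb φ g.1 = 1 := by
      have : emb φ g.1 = h⁻¹ * (h * emb φ g.1 * h⁻¹) * h := by group
      rw [this, h1]
      group
    exact Subtype.ext (emb_inj φ (by rw [h2, Subgroup.coe_one, map_one]))
  · intro x y
    funext i
    show (x i + y i) ^ (p ^ n) ^ 2 = x i ^ (p ^ n) ^ 2 + y i ^ (p ^ n) ^ 2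
    rw [← pow_mul, add_pow_char_pow]
  · intro d x
    funext i
    show (d * x i) ^ (p ^ n) ^ 2 = d ^ (p ^ n) ^ 2 * x i ^ (p ^ n) ^ 2
    rw [mul_pow]
  · intro x hx0
    funext i
    have h1 : x i ^ (p ^ n) ^ 2 = 0 := congrFun hx0 i
    exact eq_zero_of_pow_eq_zero h1
  · intro x hxW
    rw [hWmem] at hxW ⊢
    rw [hf, ← frob_comm hF φ s 2 x, ← hf, hxW]
    funext i
    show (μ * x i) ^ (p ^ n) ^ 2 = μ * x i ^ (p ^ n) ^ 2
    rw [mul_pow, hμQ]
  · intro g x
    rw [hρ, hρ]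
    exact frob_comm hF φ g.1 2 x

/-- **`p`-groups centralising a semisimple element** -/
theorem card_le_sq (hn : n ≠ 0) (hF : Fintype.card F = p ^ n) {s : GL (Fin 8) F} (hs : s ∈ Cfsg.Lie.G2 F)
    (hdet : (s : Matrix (Fin 8) (Fin 8) F).det = 1) {m : ℕ} (hpm : ¬ p ∣ m) (hsm : s ^ m = 1)
    (hmq : m ∣ (p ^ n) ^ 2 - 1) (P : Subgroup (GL (Fin 8) F)) (hPG : P ≤ Cfsg.Lie.G2 F) (hPp : IsPGroup p P)
    (hPs : ∀ u ∈ P, u * s = s * u) (hs2 : s ^ 2 ≠ 1) (h3 : ¬ T3 s) :
    Nat.card P ≤ (p ^ n) ^ 2 := by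
  have hcharF : CharP F p := Cfsg.Agent.H161.G2Main.charP_of_card hn hF
  let K := AlgebraicClosure F
  let φ : F →+* K := algebraMap F K
  have : CharP K p := charP_of_injective_algebraMap φ.injective p
  have hq1 : 1 ≤ p ^ n := Nat.one_le_pow _ _ hp.out.pos
  by_cases hP1 : P = ⊥
  · rw [hP1, Subgroup.card_bot]
    exact Nat.one_le_pow _ _ hq1
  obtain ⟨u0, hu0, hu01⟩ := (Subgroup.ne_bot_iff_exists_ne_one).1 hP1 |>.elim (fun u hu => (⟨u.1, u.2, fun h => hu (Subtype.ext h)⟩ :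
    ∃ u0 ∈ P, u0 ≠ 1))
  obtain ⟨k, hk⟩ := hPp ⟨u0, hu0⟩
  have hk' : u0 ^ p ^ k = 1 := congrArg Subtype.val hk
  have hmK : (m : K) ≠ 0 := by
    intro h
    rw [CharP.cast_eq_zero_iff K p] at h
    exact hpm h
  have hdets : LinearMap.det (emb φ s : V K →ₗ[K] V K) = 1 := by
    rw [det_emb, hdet, map_one]
  obtain ⟨h, hh, a, b, c, habc, hx⟩ := exists_diag (emb_mem φ hs) hmK (by rw [← map_pow, hsm, map_one]) hdets
  have hDF : DF (emb φ s) a b c := by
    refine ⟨h, hh, ?_⟩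
    intro x j
    rw [hx]
    fin_cases j <;> simp [dg]
  have hsing := singular (p := p) (k := k) habc hDF (emb_mem φ (hPG hu0))
    (fun h1 => hu01 (emb_inj φ (by rw [h1, map_one]))) (by rw [← map_pow, hk', map_one])
    (by rw [← map_mul, ← map_mul, hPs u0 hu0])
  have key : ∀ a b c : K, a * b * c = 1 → DF (emb φ s) a b c → (a = 1 ∨ a = b) → Nat.card P ≤ (p ^ n) ^ 2 := by
    intro a b c habc hDF hab
    refine card_le_aux hn hF φ habc hDF hsm hmq P hPG hPp hPs ?_ ?_ hab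
    · rintro ⟨h4, h5, h6⟩
      apply hs2
      apply emb_inj φ
      rw [map_pow, hDF.pow_one h4 h5 h6, map_one]
    · rintro ⟨h4, h5⟩
      subst h4 h5
      refine h3 ⟨a, by rw [← habc]; ring, ?_, hDF⟩
      intro h6
      apply hs2
      apply emb_inj φ
      rw [map_pow, hDF.pow_one (by rw [h6, one_pow]) (by rw [h6, one_pow]) (by rw [h6, one_pow]), map_one]
  rcases hsing with h1 | h1 | h1 | h1 | h1 | h1
  · exact key a b c habc hDF (Or.inl h1)
  · exact key b c a (by rw [← habc]; ring) hDF.cyc (Or.inl h1)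
  · exact key c a b (by rw [← habc]; ring) hDF.cyc.cyc (Or.inl h1)
  · exact key a b c habc hDF (Or.inr h1)
  · exact key b c a (by rw [← habc]; ring) hDF.cyc (Or.inr h1)
  · exact key c a b (by rw [← habc]; ring) hDF.cyc.cyc (Or.inr h1.symm)

end field

end Cfsg.Agent.H994.G2Mix
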