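import Cfsg.Agent.LieRecognition.G2Elem
import Cfsg.Agent.H167.AltChev
import Cfsg.Agent.S1026
import Cfsg.Agent.H498.Ab.Def

/-!
# Abelian unipotent subgroups of `G₂(q)`: order at most `q ^ 4`, and at most `q ^ 3` if `6` is a unit
-/

set_option autoImplicit false
set_option linter.unusedSectionVars false

namespace Cfsg.Agent.H994.G2Uni

open Cfsg Cfsg.Lie Cfsg.Agent.LieRecognition.G2Elem Cfsg.Agent.H498.Ab
open scoped Matrix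

variable {K : Type*} [Field K]

/-- product of the positive root elements -/
def U (t6 t7 t8 t9 t10 t11 : K) : Matrix chevG2.Idx chevG2.Idx K :=
  chevG2.x K 6 t6 * (chevG2.x K 7 t7 * (chevG2.x K 8 t8 * (chevG2.x K 9 t9 * (chevG2.x K 10 t10 * chevG2.x K 11 t11))))

/-- the lowest weight vector -/
abbrev w0 (K : Type*) [Field K] : chevG2.Idx → K := mk 0 0 1 0 0 0 0 0 0 0 0 0 0 0

abbrev w1 (K : Type*) [Field K] : chevG2.Idx → K := mk 0 1 0 0 0 0 0 0 0 0 0 0 0 0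

def T6 (M : Matrix chevG2.Idx chevG2.Idx K) : K := -((M *ᵥ w0 K) (ie 1))
def T7 (M : Matrix chevG2.Idx chevG2.Idx K) : K := (M *ᵥ w1 K) (ie 7)
def T8 (M : Matrix chevG2.Idx chevG2.Idx K) : K := -((M *ᵥ w0 K) (ie 2))
def T9 (M : Matrix chevG2.Idx chevG2.Idx K) : K := (M *ᵥ w0 K) (ie 3)
def T10 (M : Matrix chevG2.Idx chevG2.Idx K) : K := (M *ᵥ w0 K) (ie 5)
def T11 (M : Matrix chevG2.Idx chevG2.Idx K) : K := (M *ᵥ w0 K) (ih 0)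

theorem mk_ih0 (a0 a1 b0 b1 b2 b3 b4 b5 b6 b7 b8 b9 b10 b11 : K) :
    mk a0 a1 b0 b1 b2 b3 b4 b5 b6 b7 b8 b9 b10 b11 (ih 0) = a0 := rfl
theorem mk_ie1 (a0 a1 b0 b1 b2 b3 b4 b5 b6 b7 b8 b9 b10 b11 : K) :
    mk a0 a1 b0 b1 b2 b3 b4 b5 b6 b7 b8 b9 b10 b11 (ie 1) = b1 := rfl
theorem mk_ie2 (a0 a1 b0 b1 b2 b3 b4 b5 b6 b7 b8 b9 b10 b11 : K) :
    mk a0 a1 b0 b1 b2 b3 b4 b5 b6 b7 b8 b9 b10 b11 (ie 2) = b2 := rfl
theorem mk_ie3 (a0 a1 b0 b1 b2 b3 b4 b5 b6 b7 b8 b9 b10 b11 : K) :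
    mk a0 a1 b0 b1 b2 b3 b4 b5 b6 b7 b8 b9 b10 b11 (ie 3) = b3 := rfl
theorem mk_ie5 (a0 a1 b0 b1 b2 b3 b4 b5 b6 b7 b8 b9 b10 b11 : K) :
    mk a0 a1 b0 b1 b2 b3 b4 b5 b6 b7 b8 b9 b10 b11 (ie 5) = b5 := rfl
theorem mk_ie7 (a0 a1 b0 b1 b2 b3 b4 b5 b6 b7 b8 b9 b10 b11 : K) :
    mk a0 a1 b0 b1 b2 b3 b4 b5 b6 b7 b8 b9 b10 b11 (ie 7) = b7 := rfl

macro "uev" : tactic => `(tactic| (simp only [T6, T7, T8, T9, T10, T11, U, ← Matrix.mulVec_mulVec, x6_mk, x7_mk, x8_mk, x9_mk, x10_mk, x11_mk,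
  mk_ih0, mk_ie1, mk_ie2, mk_ie3, mk_ie5, mk_ie7]))

theorem T6_mul (a6 a7 a8 a9 a10 a11 b6 b7 b8 b9 b10 b11 : K) :
    T6 (U a6 a7 a8 a9 a10 a11 * U b6 b7 b8 b9 b10 b11) = T6 (U a6 a7 a8 a9 a10 a11) + b6 := by
  uev; ring

theorem T7_mul (a6 a7 a8 a9 a10 a11 b7 b8 b9 b10 b11 : K) :
    T7 (U a6 a7 a8 a9 a10 a11 * U 0 b7 b8 b9 b10 b11) = T7 (U a6 a7 a8 a9 a10 a11) + b7 := by
  uev; ring

theorem T8_mul (a6 a7 a8 a9 a10 a11 b8 b9 b10 b11 : K) :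
    T8 (U a6 a7 a8 a9 a10 a11 * U 0 0 b8 b9 b10 b11) = T8 (U a6 a7 a8 a9 a10 a11) + b8 := by
  uev; ring

theorem T9_mul (a6 a7 a8 a9 a10 a11 b9 b10 b11 : K) :
    T9 (U a6 a7 a8 a9 a10 a11 * U 0 0 0 b9 b10 b11) = T9 (U a6 a7 a8 a9 a10 a11) + b9 := by
  uev; ring

theorem T10_mul (a6 a7 a8 a9 a10 a11 b10 b11 : K) :
    T10 (U a6 a7 a8 a9 a10 a11 * U 0 0 0 0 b10 b11) = T10 (U a6 a7 a8 a9 a10 a11) + b10 := by
  uev; ring

theorem T11_mul (a6 a7 a8 a9 a10 a11 b11 : K) :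
    T11 (U a6 a7 a8 a9 a10 a11 * U 0 0 0 0 0 b11) = T11 (U a6 a7 a8 a9 a10 a11) + b11 := by
  uev; ring

theorem c610 {a6 a7 a8 a9 a10 a11 b10 b11 : K}
    (h : U a6 a7 a8 a9 a10 a11 * U 0 0 0 0 b10 b11 = U 0 0 0 0 b10 b11 * U a6 a7 a8 a9 a10 a11) : a6 * b10 = 0 := by
  have h1 := congrArg T11 h
  revert h1
  uev
  intro h1
  linear_combination h1

theorem c78 {a7 a8 a9 a10 a11 b8 b9 b10 b11 : K}
    (h : U 0 a7 a8 a9 a10 a11 * U 0 0 b8 b9 b10 b11 = U 0 0 b8 b9 b10 b11 * U 0 a7 a8 a9 a10 a11) : 2 * (a7 * b8) = 0 := by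
  have h1 := congrArg T9 h
  revert h1
  uev
  intro h1
  linear_combination -h1

theorem c79 {a7 a8 a9 a10 a11 b9 b10 b11 : K}
    (h : U 0 a7 a8 a9 a10 a11 * U 0 0 0 b9 b10 b11 = U 0 0 0 b9 b10 b11 * U 0 a7 a8 a9 a10 a11) : 3 * (a7 * b9) = 0 := by
  have h1 := congrArg T10 h
  revert h1
  uev
  intro h1
  linear_combination h1

theorem c89 {a8 a9 a10 a11 b9 b10 b11 : K}
    (h : U 0 0 a8 a9 a10 a11 * U 0 0 0 b9 b10 b11 = U 0 0 0 b9 b10 b11 * U 0 0 a8 a9 a10 a11) : 3 * (a8 * b9) = 0 := by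
  have h1 := congrArg T11 h
  revert h1
  uev
  intro h1
  linear_combination h1

/-- the six coordinates -/
def T (j : Fin 6) (M : Matrix chevG2.Idx chevG2.Idx K) : K := ![T6 M, T7 M, T8 M, T9 M, T10 M, T11 M] j

/-- leading root -/
def L (j : Fin 6) (M : Matrix chevG2.Idx chevG2.Idx K) : Prop :=
  ∃ b6 b7 b8 b9 b10 b11 : K, M = U b6 b7 b8 b9 b10 b11 ∧
    ![b6 ≠ 0, b6 = 0 ∧ b7 ≠ 0, b6 = 0 ∧ b7 = 0 ∧ b8 ≠ 0, b6 = 0 ∧ b7 = 0 ∧ b8 = 0 ∧ b9 ≠ 0,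
      b6 = 0 ∧ b7 = 0 ∧ b8 = 0 ∧ b9 = 0 ∧ b10 ≠ 0, b6 = 0 ∧ b7 = 0 ∧ b8 = 0 ∧ b9 = 0 ∧ b10 = 0 ∧ b11 ≠ 0] j

theorem x_zero (r : ℕ) (hr : r ∈ [6, 7, 8, 9, 10, 11]) : chevG2.x K r 0 = 1 := by
  apply mat_ext
  intro a0 a1 b0 b1 b2 b3 b4 b5 b6 b7 b8 b9 b10 b11
  simp only [List.mem_cons, List.not_mem_nil, or_false] at hr
  rcases hr with rfl | rfl | rfl | rfl | rfl | rfl
  · rw [x6_mk, Matrix.one_mulVec]; apply mk_congr <;> ring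
  · rw [x7_mk, Matrix.one_mulVec]; apply mk_congr <;> ring
  · rw [x8_mk, Matrix.one_mulVec]; apply mk_congr <;> ring
  · rw [x9_mk, Matrix.one_mulVec]; apply mk_congr <;> ring
  · rw [x10_mk, Matrix.one_mulVec]; apply mk_congr <;> ring
  · rw [x11_mk, Matrix.one_mulVec]; apply mk_congr <;> ring

theorem U_zero : U (0 : K) 0 0 0 0 0 = 1 := by
  rw [U, x_zero 6 (by simp), x_zero 7 (by simp), x_zero 8 (by simp), x_zero 9 (by simp), x_zero 10 (by simp),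
    x_zero 11 (by simp)]
  simp

theorem exists_L {b6 b7 b8 b9 b10 b11 : K} (h : U b6 b7 b8 b9 b10 b11 ≠ 1) : ∃ j, L j (U b6 b7 b8 b9 b10 b11) := by
  by_cases h6 : b6 = 0
  · by_cases h7 : b7 = 0
    · by_cases h8 : b8 = 0
      · by_cases h9 : b9 = 0
        · by_cases h10 : b10 = 0
          · by_cases h11 : b11 = 0
            · exfalso
              apply h
              rw [h6, h7, h8, h9, h10, h11, U_zero]
            · exact ⟨5, _, _, _, _, _, _, rfl, h6, h7, h8, h9, h10, h11⟩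
          · exact ⟨4, _, _, _, _, _, _, rfl, h6, h7, h8, h9, h10⟩
        · exact ⟨3, _, _, _, _, _, _, rfl, h6, h7, h8, h9⟩
      · exact ⟨2, _, _, _, _, _, _, rfl, h6, h7, h8⟩
    · exact ⟨1, _, _, _, _, _, _, rfl, h6, h7⟩
  · exact ⟨0, _, _, _, _, _, _, rfl, h6⟩

theorem T_ne {a6 a7 a8 a9 a10 a11 : K} {j : Fin 6} {M : Matrix chevG2.Idx chevG2.Idx K} (h : L j M) :
    T j (U a6 a7 a8 a9 a10 a11 * M) ≠ T j (U a6 a7 a8 a9 a10 a11) := by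
  obtain ⟨b6, b7, b8, b9, b10, b11, rfl, h⟩ := h
  fin_cases j
  · replace h : b6 ≠ 0 := h
    show T6 _ ≠ T6 _
    rw [T6_mul]
    intro h'
    exact h (by linear_combination h')
  · obtain ⟨rfl, h⟩ : b6 = 0 ∧ b7 ≠ 0 := h
    show T7 _ ≠ T7 _
    rw [T7_mul]
    intro h'
    exact h (by linear_combination h')
  · obtain ⟨rfl, rfl, h⟩ : b6 = 0 ∧ b7 = 0 ∧ b8 ≠ 0 := h
    show T8 _ ≠ T8 _
    rw [T8_mul]
    intro h'
    exact h (by linear_combination h')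
  · obtain ⟨rfl, rfl, rfl, h⟩ : b6 = 0 ∧ b7 = 0 ∧ b8 = 0 ∧ b9 ≠ 0 := h
    show T9 _ ≠ T9 _
    rw [T9_mul]
    intro h'
    exact h (by linear_combination h')
  · obtain ⟨rfl, rfl, rfl, rfl, h⟩ : b6 = 0 ∧ b7 = 0 ∧ b8 = 0 ∧ b9 = 0 ∧ b10 ≠ 0 := h
    show T10 _ ≠ T10 _
    rw [T10_mul]
    intro h'
    exact h (by linear_combination h')
  · obtain ⟨rfl, rfl, rfl, rfl, rfl, h⟩ : b6 = 0 ∧ b7 = 0 ∧ b8 = 0 ∧ b9 = 0 ∧ b10 = 0 ∧ b11 ≠ 0 := h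
    show T11 _ ≠ T11 _
    rw [T11_mul]
    intro h'
    exact h (by linear_combination h')

theorem not_04 {M N : Matrix chevG2.Idx chevG2.Idx K} (h : M * N = N * M) (h1 : L 0 M) (h2 : L 4 N) : False := by
  obtain ⟨a6, a7, a8, a9, a10, a11, rfl, h1⟩ := h1
  obtain ⟨b6, b7, b8, b9, b10, b11, rfl, h2⟩ := h2
  replace h1 : a6 ≠ 0 := h1
  obtain ⟨rfl, rfl, rfl, rfl, h2⟩ : b6 = 0 ∧ b7 = 0 ∧ b8 = 0 ∧ b9 = 0 ∧ b10 ≠ 0 := h2
  exact mul_ne_zero h1 h2 (c610 h)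

theorem not_12 (h0 : (2 : K) ≠ 0) {M N : Matrix chevG2.Idx chevG2.Idx K} (h : M * N = N * M) (h1 : L 1 M) (h2 : L 2 N) :
    False := by
  obtain ⟨a6, a7, a8, a9, a10, a11, rfl, h1⟩ := h1
  obtain ⟨b6, b7, b8, b9, b10, b11, rfl, h2⟩ := h2
  obtain ⟨rfl, h1⟩ : a6 = 0 ∧ a7 ≠ 0 := h1
  obtain ⟨rfl, rfl, h2⟩ : b6 = 0 ∧ b7 = 0 ∧ b8 ≠ 0 := h2
  exact mul_ne_zero h0 (mul_ne_zero h1 h2) (c78 h)

theorem not_13 (h0 : (3 : K) ≠ 0) {M N : Matrix chevG2.Idx chevG2.Idx K} (h : M * N = N * M) (h1 : L 1 M) (h2 : L 3 N) :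
    False := by
  obtain ⟨a6, a7, a8, a9, a10, a11, rfl, h1⟩ := h1
  obtain ⟨b6, b7, b8, b9, b10, b11, rfl, h2⟩ := h2
  obtain ⟨rfl, h1⟩ : a6 = 0 ∧ a7 ≠ 0 := h1
  obtain ⟨rfl, rfl, rfl, h2⟩ : b6 = 0 ∧ b7 = 0 ∧ b8 = 0 ∧ b9 ≠ 0 := h2
  exact mul_ne_zero h0 (mul_ne_zero h1 h2) (c79 h)

theorem not_23 (h0 : (3 : K) ≠ 0) {M N : Matrix chevG2.Idx chevG2.Idx K} (h : M * N = N * M) (h1 : L 2 M) (h2 : L 3 N) :
    False := by
  obtain ⟨a6, a7, a8, a9, a10, a11, rfl, h1⟩ := h1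
  obtain ⟨b6, b7, b8, b9, b10, b11, rfl, h2⟩ := h2
  obtain ⟨rfl, rfl, h1⟩ : a6 = 0 ∧ a7 = 0 ∧ a8 ≠ 0 := h1
  obtain ⟨rfl, rfl, rfl, h2⟩ : b6 = 0 ∧ b7 = 0 ∧ b8 = 0 ∧ b9 ≠ 0 := h2
  exact mul_ne_zero h0 (mul_ne_zero h1 h2) (c89 h)

/-- counting by the coordinates at the leading roots -/
theorem card_le_of_lead {G : Type*} [Group G] [Finite K] (A : Subgroup G) (T : Fin 6 → G → K) (L : Fin 6 → G → Prop)
    (h1 : ∀ k ∈ A, k ≠ 1 → ∃ j, L j k) (h2 : ∀ h ∈ A, ∀ k ∈ A, ∀ j, L j k → T j (h * k) ≠ T j h)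
    (S : Finset (Fin 6)) (hS : ∀ j, (∃ k ∈ A, L j k) → j ∈ S) : Nat.card A ≤ Nat.card K ^ S.card := by
  have hinj : Function.Injective (fun (g : A) (j : S) => T j.1 g.1) := by
    intro g h hgh
    by_contra hne
    have hk : (h : G)⁻¹ * g ∈ A := A.mul_mem (A.inv_mem h.2) g.2
    have hk1 : (h : G)⁻¹ * g ≠ 1 := by
      intro h'
      apply hne
      apply Subtype.ext
      rw [inv_mul_eq_one] at h'
      exact h'.symm
    obtain ⟨j, hj⟩ := h1 _ hk hk1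
    refine h2 h.1 h.2 _ hk j hj ?_
    rw [mul_inv_cancel_left]
    exact congrFun hgh ⟨j, hS j ⟨_, hk, hj⟩⟩
  have h3 := Nat.card_le_card_of_injective _ hinj
  rwa [Nat.card_fun, Nat.card_eq_fintype_card (α := S), Fintype.card_coe] at h3

theorem fin_four : ∀ S : Finset (Fin 6), ¬ (0 ∈ S ∧ 4 ∈ S) → (¬ (1 ∈ S ∧ 2 ∈ S) ∨ ¬ (1 ∈ S ∧ 3 ∈ S)) → S.card ≤ 4 := by
  decide

theorem fin_three : ∀ S : Finset (Fin 6), ¬ (0 ∈ S ∧ 4 ∈ S) → ¬ (1 ∈ S ∧ 2 ∈ S) → ¬ (1 ∈ S ∧ 3 ∈ S) → ¬ (2 ∈ S ∧ 3 ∈ S) →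
    S.card ≤ 3 := by
  decide

theorem hG2 : chevG2 ∈ [chevG2, chevB2, chevD4, chevF4, chevE6, chevE7, chevE8] := by simp

theorem exists_U {g : GL chevG2.Idx K} (hg : g ∈ chevG2.posUnipotent K) :
    ∃ b6 b7 b8 b9 b10 b11 : K, (g : Matrix chevG2.Idx chevG2.Idx K) = U b6 b7 b8 b9 b10 b11 := by
  obtain ⟨t, ⟨-, ht⟩, -⟩ := (Cfsg.Agent.S1026.result (F := K) chevG2 hG2).1 g hg
  refine ⟨t 6, t 7, t 8, t 9, t 10, t 11, ?_⟩
  rw [ht]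
  have h1 : chevG2.posRoots = [6, 7, 8, 9, 10, 11] := by decide
  rw [h1]
  simp only [ChevalleyDatum.wordMat, List.map_cons, List.map_nil, List.prod_cons, List.prod_nil, mul_one]
  rfl

variable [Finite K] {p : ℕ} [Fact p.Prime] [CharP K p]

/-- abelian subgroups of the unipotent group -/
theorem card_le_of_le {A : Subgroup ↥(chevG2.group K)} (hA : IsMulCommutative A)
    (hU : A ≤ (chevG2.posUnipotent K).subgroupOf (chevG2.group K)) :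
    Nat.card A ≤ Nat.card K ^ 4 ∧ ((2 : K) ≠ 0 → (3 : K) ≠ 0 → Nat.card A ≤ Nat.card K ^ 3) := by
  classical
  set S : Finset (Fin 6) := Finset.univ.filter fun j => ∃ k ∈ A, L j ((k : GL chevG2.Idx K) : Matrix chevG2.Idx chevG2.Idx K)
    with hSdef
  have hcomm : ∀ x ∈ A, ∀ y ∈ A, ((x : GL chevG2.Idx K) : Matrix chevG2.Idx chevG2.Idx K) *
      ((y : GL chevG2.Idx K) : Matrix chevG2.Idx chevG2.Idx K) = ((y : GL chevG2.Idx K) : Matrix chevG2.Idx chevG2.Idx K) *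
      ((x : GL chevG2.Idx K) : Matrix chevG2.Idx chevG2.Idx K) := by
    intro x hx y hy
    have h := comm_iff.1 hA x hx y hy
    exact congrArg (fun z : ↥(chevG2.group K) => ((z : GL chevG2.Idx K) : Matrix chevG2.Idx chevG2.Idx K)) h
  have hcard : Nat.card A ≤ Nat.card K ^ S.card := by
    refine card_le_of_lead A (fun j g => T j ((g : GL chevG2.Idx K) : Matrix chevG2.Idx chevG2.Idx K))
      (fun j g => L j ((g : GL chevG2.Idx K) : Matrix chevG2.Idx chevG2.Idx K)) ?_ ?_ S ?_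
    · intro k hk hk1
      obtain ⟨b6, b7, b8, b9, b10, b11, hb⟩ := exists_U (Subgroup.mem_subgroupOf.1 (hU hk))
      show ∃ j, L j ((k : GL chevG2.Idx K) : Matrix chevG2.Idx chevG2.Idx K)
      rw [hb]
      apply exists_L
      rw [← hb]
      intro h
      apply hk1
      apply Subtype.ext
      exact Units.ext h
    · intro h hh k hk j hj
      obtain ⟨b6, b7, b8, b9, b10, b11, hb⟩ := exists_U (Subgroup.mem_subgroupOf.1 (hU hh))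
      show T j (((h : GL chevG2.Idx K) : Matrix chevG2.Idx chevG2.Idx K) *
        ((k : GL chevG2.Idx K) : Matrix chevG2.Idx chevG2.Idx K)) ≠ T j ((h : GL chevG2.Idx K) : Matrix chevG2.Idx chevG2.Idx K)
      rw [hb]
      exact T_ne hj
    · intro j hj
      rw [hSdef, Finset.mem_filter]
      exact ⟨Finset.mem_univ _, hj⟩
  have hmem : ∀ j, j ∈ S → ∃ k ∈ A, L j ((k : GL chevG2.Idx K) : Matrix chevG2.Idx chevG2.Idx K) := by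
    intro j hj
    rw [hSdef, Finset.mem_filter] at hj
    exact hj.2
  have h04 : ¬ (0 ∈ S ∧ 4 ∈ S) := by
    rintro ⟨h1, h2⟩
    obtain ⟨x, hx, hx'⟩ := hmem _ h1
    obtain ⟨y, hy, hy'⟩ := hmem _ h2
    exact not_04 (hcomm x hx y hy) hx' hy'
  have h12 : (2 : K) ≠ 0 → ¬ (1 ∈ S ∧ 2 ∈ S) := by
    rintro h0 ⟨h1, h2⟩
    obtain ⟨x, hx, hx'⟩ := hmem _ h1
    obtain ⟨y, hy, hy'⟩ := hmem _ h2
    exact not_12 h0 (hcomm x hx y hy) hx' hy'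
  have h13 : (3 : K) ≠ 0 → ¬ (1 ∈ S ∧ 3 ∈ S) := by
    rintro h0 ⟨h1, h2⟩
    obtain ⟨x, hx, hx'⟩ := hmem _ h1
    obtain ⟨y, hy, hy'⟩ := hmem _ h2
    exact not_13 h0 (hcomm x hx y hy) hx' hy'
  have h23 : (3 : K) ≠ 0 → ¬ (2 ∈ S ∧ 3 ∈ S) := by
    rintro h0 ⟨h1, h2⟩
    obtain ⟨x, hx, hx'⟩ := hmem _ h1
    obtain ⟨y, hy, hy'⟩ := hmem _ h2
    exact not_23 h0 (hcomm x hx y hy) hx' hy'
  have hq : 0 < Nat.card K := Nat.card_pos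
  constructor
  · refine hcard.trans (Nat.pow_le_pow_right hq (fin_four S h04 ?_))
    by_cases h3 : (3 : K) = 0
    · left
      apply h12
      intro h2
      have : (1 : K) = 0 := by linear_combination h3 - h2
      exact one_ne_zero this
    · exact Or.inr (h13 h3)
  · intro h2 h3
    exact hcard.trans (Nat.pow_le_pow_right hq (fin_three S h04 (h12 h2) (h13 h3) (h23 h3)))

/-- **abelian `p`-subgroups of `G₂(q)`** -/
theorem card_le (p : ℕ) [Fact p.Prime] [CharP K p] {A : Subgroup ↥(chevG2.group K)} (hA : IsMulCommutative A)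
    (hp : IsPGroup p A) :
    Nat.card A ≤ Nat.card K ^ 4 ∧ ((2 : K) ≠ 0 → (3 : K) ≠ 0 → Nat.card A ≤ Nat.card K ^ 3) := by
  have : Fintype K := Fintype.ofFinite K
  have hfin : Finite ↥(chevG2.group K) := inferInstance
  obtain ⟨P, hP⟩ := Cfsg.Agent.H167.AltChev.exists_sylow (K := K) (D := chevG2) (l := 2) (M := CoxeterMatrix.G₂)
    (by simp [Cfsg.Agent.Nodes.RGDChev.IsType, Cfsg.Agent.Nodes.RGDChev.typeList]) p
  obtain ⟨Q, hQ⟩ := hp.exists_le_sylow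
  obtain ⟨g, hg⟩ := MulAction.exists_smul_eq ↥(chevG2.group K) Q P
  have h1 : A.map (MulAut.conj g).toMonoidHom ≤ (chevG2.posUnipotent K).subgroupOf (chevG2.group K) := by
    rw [← hP, ← hg]
    exact Subgroup.map_mono hQ
  have h2 : Nat.card (A.map (MulAut.conj g).toMonoidHom) = Nat.card A :=
    Nat.card_congr (Subgroup.equivMapOfInjective A (MulAut.conj g).toMonoidHom (MulAut.conj g).injective).symm.toEquiv
  have h3 := card_le_of_le (comm_map (MulAut.conj g).toMonoidHom hA) h1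
  rwa [h2] at h3

end Cfsg.Agent.H994.G2Uni
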